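import Cfsg.Agent.Lib.Chevalley.SL2
import Cfsg.Agent.Lib.Chevalley.NormalForm
import Cfsg.Agent.Lib.Chevalley.Order
import Cfsg.Agent.Lib.Chevalley.TorusCard

/-!
General facts for involutions of Chevalley groups in odd characteristic: torus elements and their
characters, words fixing roots, and the reduction of an involution into the monomial subgroup.
-/

set_option autoImplicit false

open scoped MatrixGroups Matrix

namespace Cfsg.Agent.GroupStructure3.OddInvol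

open Cfsg.Lie Cfsg.Agent.Chevalley Cfsg.Agent.Chevalley.Table Cfsg.Agent.Chevalley.Cert
  Cfsg.Agent.Chevalley.Group Cfsg.Agent.Chevalley.Unip Cfsg.Agent.Chevalley.Borel
  Cfsg.Agent.Chevalley.Weyl Cfsg.Agent.Chevalley.WeylEnum Cfsg.Agent.Chevalley.NormalForm

variable {D : ChevalleyDatum} {F : Type*} [Field F] {T : Tab}

/-- Conjugacy by an element of the Chevalley group. -/
def Cj (D : ChevalleyDatum) {F : Type*} [Field F] (x y : GL D.Idx F) : Prop :=
  ∃ g ∈ D.group F, g * x * g⁻¹ = y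

theorem Cj.refl (x : GL D.Idx F) : Cj D x x := ⟨1, one_mem _, by group⟩

theorem Cj.symm {x y : GL D.Idx F} : Cj D x y → Cj D y x := by
  rintro ⟨g, hg, rfl⟩
  exact ⟨g⁻¹, inv_mem hg, by group⟩

theorem Cj.trans {x y z : GL D.Idx F} : Cj D x y → Cj D y z → Cj D x z := by
  rintro ⟨g, hg, rfl⟩ ⟨h, hh, rfl⟩
  exact ⟨h * g, mul_mem hh hg, by group⟩

theorem Cj.sq_one {x y : GL D.Idx F} (h : Cj D x y) (hx : x * x = 1) : y * y = 1 := by
  obtain ⟨g, -, rfl⟩ := h
  rw [show g * x * g⁻¹ * (g * x * g⁻¹) = g * (x * x) * g⁻¹ by group, hx]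
  group

theorem two_ne (F : Type*) [Field F] [Fintype F] (hF : Odd (Fintype.card F)) : (2 : F) ≠ 0 := by
  refine Ring.two_ne_zero fun hr => ?_
  have hd := FiniteField.even_card_iff_char_two.1 hr
  rw [Nat.odd_iff] at hF
  omega

variable (hC : Certified D T)
include hC

theorem torChar_neg (c : ℕ → Fˣ) {r : ℕ} (hr : r < D.nroots) :
    torChar D c (D.neg r) = (torChar D c r)⁻¹ := by
  rw [torChar, torChar, ← Finset.prod_inv_distrib]
  exact Finset.prod_congr rfl fun i hi => by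
    rw [hC.cartan_neg hr (Finset.mem_range.1 hi), zpow_neg]

theorem torChar_eq_of_simple {c c' : ℕ → Fˣ}
    (h : ∀ i < D.rank, torChar D c (D.simple i) = torChar D c' (D.simple i)) :
    ∀ s < D.nroots, torChar D c s = torChar D c' s :=
  Root.simple_induction hC (fun i hi => h i hi) fun r hr i hi ih => by
    rw [TorusCard.torChar_reflect hC _ hi hr, TorusCard.torChar_reflect hC _ hi hr, ih, h i hi]

theorem tor_ext {c c' : ℕ → Fˣ}
    (h : ∀ i < D.rank, torChar D c (D.simple i) = torChar D c' (D.simple i)) :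
    tor D c = tor D c' :=
  dg_congr (torChar_eq_of_simple hC h)

theorem torChar_congr {c c' : ℕ → Fˣ} (h : tor D c = tor D c') {s : ℕ} (hs : s < D.nroots) :
    torChar D c s = torChar D c' s := by
  have e := tor_conj_x hC c s 1 hs
  rw [h, tor_conj_x hC c' s 1 hs] at e
  exact Units.ext (by simpa using (xg_injective hC hs e).symm)

theorem torChar_one (s : ℕ) : torChar D (1 : ℕ → Fˣ) s = 1 := by simp [torChar]

theorem torChar_mul (c c' : ℕ → Fˣ) (s : ℕ) :
    torChar D (c * c') s = torChar D c s * torChar D c' s := by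
  simp [torChar, mul_zpow, Finset.prod_mul_distrib]

theorem reflect_fix {i r : ℕ} (hi : i < D.rank) (hr : r < D.nroots) (h : D.cartan i r = 0) :
    D.reflectRoot i r = r :=
  hC.phi_inj (hC.reflect_lt hi hr) hr (by rw [hC.phi_reflect hi hr, h]; ring)

theorem wL_fix {L : List ℕ} (hL : ∀ i ∈ L, i < D.rank) {r : ℕ} (hr : r < D.nroots)
    (h : ∀ i ∈ L, D.cartan i r = 0) : wL D L r = r := by
  induction L with
  | nil => rfl
  | cons i L ih =>
    show D.reflectRoot i (wL D L r) = r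
    rw [ih (fun j hj => hL j (List.mem_cons_of_mem i hj))
      (fun j hj => h j (List.mem_cons_of_mem i hj))]
    exact reflect_fix hC (hL i List.mem_cons_self) hr (h i List.mem_cons_self)

theorem nL_conj_tor' {L : List ℕ} (hL : ∀ i ∈ L, i < D.rank) (c : ℕ → Fˣ) :
    ∃ c' : ℕ → Fˣ, nL hC F L * tor D c * (nL hC F L)⁻¹ = tor D c' ∧
      ∀ s < D.nroots, torChar D c' s = torChar D c (wL D L.reverse s) := by
  induction L with
  | nil => exact ⟨c, by simp [nL], fun s _ => rfl⟩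
  | cons i L ih =>
    have hL' : ∀ j ∈ L, j < D.rank := fun j hj => hL j (List.mem_cons_of_mem i hj)
    have hi := hL i List.mem_cons_self
    obtain ⟨c₁, e₁, h₁⟩ := ih hL'
    obtain ⟨c₂, e₂, h₂⟩ := ng_conj_tor hC hi c₁
    refine ⟨c₂, ?_, fun s hs => ?_⟩
    · rw [← e₂, ← e₁, nL_cons]; group
    · rw [h₂ s hs, h₁ _ (hC.reflect_lt hi hs), List.reverse_cons, wL_append]
      rfl

theorem mem_N {L : List ℕ} (hL : ∀ i ∈ L, i < D.rank) (c : ℕ → Fˣ) :
    tor D c * nL hC F L ∈ D.monomialSubgroup F :=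
  (mem_N_iff hC).2 ⟨c, L, hL, rfl⟩

variable [Fintype F]

theorem odd_order_U (hF : Odd (Fintype.card F)) {u : GL D.Idx F}
    (hu : u ∈ D.posUnipotent F) : Odd (orderOf u) := by
  have h := orderOf_dvd_natCard (⟨u, hu⟩ : D.posUnipotent F)
  rw [Count.card_U hC, Nat.card_eq_fintype_card, Subgroup.orderOf_mk] at h
  exact Odd.of_dvd_nat hF.pow h

/-- An involution is conjugate to a monomial involution. -/
theorem exists_monomial (hF : Odd (Fintype.card F)) {t : GL D.Idx F} (ht : t ∈ D.group F)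
    (h2 : t * t = 1) : ∃ m ∈ D.monomialSubgroup F, Cj D t m ∧ m * m = 1 := by
  obtain ⟨b, hb, n, hn, u, hu, rfl⟩ := exists_form hC ht
  have hUB : D.posUnipotent F ≤ D.borelSubgroup F := le_sup_left
  have huB := hUB (Uminus_le_U hC n hu)
  obtain ⟨v, hv, h, hh, he⟩ := (mem_B_iff hC).1 (mul_mem huB hb)
  obtain ⟨m, hm⟩ : ∃ m, m = h * n := ⟨_, rfl⟩
  have hmN : m ∈ D.monomialSubgroup F := hm ▸ mul_mem (Subgroup.mem_sup_left hh) hn
  have hc1 : Cj D (b * n * u) (v * m) := by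
    refine ⟨u, B_le_group hC huB, ?_⟩
    rw [show u * (b * n * u) * u⁻¹ = u * b * n by group, he, hm, mul_assoc]
  have hsq := hc1.sq_one h2
  have hvm : v * m * 1 = 1 * m⁻¹ * v⁻¹ := by
    rw [mul_one, one_mul, ← mul_inv_rev]
    exact eq_inv_of_mul_eq_one_left hsq
  have hH := inv_mul_mem_H hC (hUB hv) (one_mem _) hmN (inv_mem hmN) (one_mem _)
    (hUB (inv_mem hv)) hvm
  obtain ⟨k, hk⟩ : ∃ k, k = m⁻¹ * m⁻¹ := ⟨_, rfl⟩
  rw [← hk] at hH
  have hconj : m * v * m⁻¹ = v⁻¹ * k := by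
    calc m * v * m⁻¹ = v⁻¹ * (v * m * (v * m)) * (m⁻¹ * m⁻¹) := by group
      _ = _ := by rw [hsq, hk]; group
  obtain ⟨c, L, hL, hmc⟩ := (mem_N_iff hC).1 hmN
  obtain ⟨v₁, w₁, hv₁, hw₁, hvw⟩ := U_decomp hC hL c hv
  rw [← hmc] at hv₁ hw₁
  have hw : m * w₁ * m⁻¹ ∈ (⊥ : Subgroup (GL D.Idx F)) := by
    rw [← B_inf_V hC, Subgroup.mem_inf]
    refine ⟨?_, conj_Uminus hC hw₁⟩
    rw [show m * w₁ * m⁻¹ = (m * v₁ * m⁻¹)⁻¹ * (m * (v₁ * w₁) * m⁻¹) by group, ← hvw, hconj]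
    exact mul_mem (inv_mem (hUB hv₁))
      (mul_mem (inv_mem (hUB hv)) (Subgroup.mem_sup_right hH))
  rw [Subgroup.mem_bot, conj_eq_one_iff] at hw
  rw [hw, mul_one] at hvw
  have hk1 : k = 1 := by
    refine UT_inf_H hC (U_le_UT hC ?_) hH
    rw [show k = v * (m * v * m⁻¹) by rw [hconj]; group]
    exact mul_mem hv (hvw ▸ hv₁)
  rw [hk1, mul_one] at hconj
  obtain ⟨j, hj⟩ := odd_order_U hC hF hv
  obtain ⟨z, hz⟩ : ∃ z, z = v ^ (j + 1) := ⟨_, rfl⟩
  have hzz : z * z = v := by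
    rw [hz, ← pow_add, show j + 1 + (j + 1) = 2 * j + 1 + 1 by ring, pow_succ, ← hj,
      pow_orderOf_eq_one, one_mul]
  have hzc : m * z * m⁻¹ = z⁻¹ := by
    rw [hz, ← conj_pow, hconj, inv_pow]
  refine ⟨m, hmN, hc1.trans ⟨z⁻¹, B_le_group hC (hUB (inv_mem (hz ▸ pow_mem hv _))), ?_⟩, ?_⟩
  · calc z⁻¹ * (v * m) * z⁻¹⁻¹ = z⁻¹ * (z * z) * (m * z * m⁻¹) * m := by rw [hzz]; group
      _ = m := by rw [hzc]; group
  · calc m * m = (m⁻¹ * m⁻¹)⁻¹ := by rw [mul_inv_rev, inv_inv]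
      _ = 1 := by rw [← hk, hk1, inv_one]

end Cfsg.Agent.GroupStructure3.OddInvol
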