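import Cfsg.Agent.GroupStructure3.OddInvol.RootSL2

/-!
A monomial involution is conjugate into the torus, when orthogonal fundamental roots commute and the
Cartan matrix is invertible modulo two.
-/

set_option autoImplicit false

open scoped MatrixGroups Matrix

namespace Cfsg.Agent.GroupStructure3.OddInvol

open Cfsg.Lie Cfsg.Agent.Chevalley Cfsg.Agent.Chevalley.Table Cfsg.Agent.Chevalley.Cert
  Cfsg.Agent.Chevalley.Group Cfsg.Agent.Chevalley.Unip Cfsg.Agent.Chevalley.Borel
  Cfsg.Agent.Chevalley.Weyl Cfsg.Agent.Chevalley.WeylEnum Cfsg.Agent.Chevalley.NormalForm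

variable {D : ChevalleyDatum} {F : Type*} [Field F] {T : Tab}

/-- Finite hypotheses on the fundamental roots. -/
structure CartanOK (D : ChevalleyDatum) (T : Tab) : Prop where
  orth : ∀ i j : Fin D.rank, i ≠ j → D.cartan i (D.simple j) % 2 = 0 →
    D.cartan j (D.simple i) % 2 = 0 → D.cartan i (D.simple j) = 0
  eta : ∀ i j : Fin D.rank, i ≠ j → D.cartan i (D.simple j) = 0 → T.eta i (D.simple j) = 1
  mod2 : ∀ p : Finset (Fin D.rank), p.Nonempty → ∃ k : Fin D.rank,
    (∑ j ∈ p, D.cartan j (D.simple k)) % 2 = 1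

/-- Pairwise orthogonal fundamental roots. -/
structure Orth (D : ChevalleyDatum) (J : List ℕ) : Prop where
  lt : ∀ i ∈ J, i < D.rank
  nodup : J.Nodup
  zero : ∀ i ∈ J, ∀ j ∈ J, i ≠ j → D.cartan i (D.simple j) = 0

theorem Orth.tail {i : ℕ} {l : List ℕ} (h : Orth D (i :: l)) : Orth D l :=
  ⟨fun j hj => h.lt j (List.mem_cons_of_mem i hj), (List.nodup_cons.1 h.nodup).2,
    fun a ha b hb => h.zero a (List.mem_cons_of_mem i ha) b (List.mem_cons_of_mem i hb)⟩

theorem Orth.reverse {J : List ℕ} (h : Orth D J) : Orth D J.reverse :=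
  ⟨fun i hi => h.lt i (List.mem_reverse.1 hi), List.nodup_reverse.2 h.nodup,
    fun i hi j hj => h.zero i (List.mem_reverse.1 hi) j (List.mem_reverse.1 hj)⟩

/-- The parameters of `n_J²`. -/
def negOn {F : Type*} [Field F] (J : List ℕ) (i : ℕ) : Fˣ := if i ∈ J then -1 else 1

open Classical in
/-- The quadratic character on units. -/
noncomputable def qch (F : Type*) [Field F] [Fintype F] : Fˣ →* ℤˣ := (quadraticChar F).toUnitHom

theorem qch_eq_one [Fintype F] {u : Fˣ} : qch F u = 1 ↔ IsSquare (u : F) := by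
  classical
  rw [qch, ← Units.val_inj, MulChar.coe_toUnitHom, Units.val_one]
  exact quadraticChar_one_iff_isSquare u.ne_zero

theorem qch_eq_neg [Fintype F] {u : Fˣ} (h : ¬ IsSquare (u : F)) : qch F u = -1 :=
  (Int.units_eq_one_or _).resolve_left fun e => h (qch_eq_one.1 e)

theorem qch_sq [Fintype F] (u : Fˣ) : qch F (u * u) = 1 := by rw [map_mul, Int.units_mul_self]

theorem neg_one_zpow_odd {n : ℤ} (h : n % 2 = 1) : (-1 : ℤˣ) ^ n = -1 :=
  (Int.odd_iff.2 h).neg_one_zpow

variable (hC : Certified D T)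
include hC

section word

variable (hK : CartanOK D T)
include hK

theorem eta_orth {J : List ℕ} (hJ : Orth D J) {i j : ℕ} (hi : i ∈ J) (hj : j ∈ J) (hne : i ≠ j) :
    T.eta i (D.simple j) = 1 ∧ D.reflectRoot i (D.simple j) = D.simple j :=
  ⟨hK.eta ⟨i, hJ.lt i hi⟩ ⟨j, hJ.lt j hj⟩ (fun e => hne (congrArg Fin.val e)) (hJ.zero i hi j hj hne),
    reflect_fix hC (hJ.lt i hi) (hC.simple_lt (hJ.lt j hj)) (hJ.zero i hi j hj hne)⟩

theorem nL_fix_x {J : List ℕ} (hJ : Orth D J) {j : ℕ} (hj : j ∈ J) :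
    ∀ l : List ℕ, (∀ i ∈ l, i ∈ J) → j ∉ l → ∀ t : F,
      nL hC F l * xg hC (D.simple j) t * (nL hC F l)⁻¹ = xg hC (D.simple j) t := by
  intro l
  induction l with
  | nil => intro _ _ t; simp [nL]
  | cons i l ih =>
    intro hl hjl t
    have hne : i ≠ j := fun e => hjl (e ▸ List.mem_cons_self)
    have hi := hl i List.mem_cons_self
    calc nL hC F (i :: l) * xg hC (D.simple j) t * (nL hC F (i :: l))⁻¹
        = ng hC (D.simple i) 1 * (nL hC F l * xg hC (D.simple j) t * (nL hC F l)⁻¹) *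
            (ng hC (D.simple i) (1 : F))⁻¹ := by rw [nL_cons]; group
      _ = _ := by
        rw [ih (fun a ha => hl a (List.mem_cons_of_mem i ha))
          (fun h => hjl (List.mem_cons_of_mem i h)), ng_conj_x hC (hJ.lt i hi)
          (hC.simple_lt (hJ.lt j hj)), (eta_orth hC hK hJ hi hj hne).1,
          (eta_orth hC hK hJ hi hj hne).2, Int.cast_one, one_mul]

theorem nL_neg_x : ∀ l : List ℕ, Orth D l → ∀ j ∈ l, ∀ t : F,
    nL hC F l * xg hC (D.simple j) t * (nL hC F l)⁻¹ = xg hC (D.neg (D.simple j)) (-t) := by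
  intro l
  induction l with
  | nil => intro _ j hj; simp at hj
  | cons i l ih =>
    intro hl j hj t
    have hi : i < D.rank := hl.lt i List.mem_cons_self
    have e : nL hC F (i :: l) * xg hC (D.simple j) t * (nL hC F (i :: l))⁻¹ =
        ng hC (D.simple i) 1 * (nL hC F l * xg hC (D.simple j) t * (nL hC F l)⁻¹) *
          (ng hC (D.simple i) (1 : F))⁻¹ := by rw [nL_cons]; group
    rw [e]
    rcases List.mem_cons.1 hj with rfl | hj'
    · rw [nL_fix_x hC hK hl List.mem_cons_self l (fun a ha => List.mem_cons_of_mem _ ha)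
        (List.nodup_cons.1 hl.nodup).1, SL2.ng_one_conj hC _ (hC.simple_lt hi)]
    · have hne : i ≠ j := fun e => (List.nodup_cons.1 hl.nodup).1 (e ▸ hj')
      obtain ⟨h1, h2⟩ := eta_orth hC hK hl List.mem_cons_self hj hne
      have hj1 : D.simple j < D.nroots := hC.simple_lt (hl.lt j hj)
      rw [ih hl.tail j hj', ng_conj_x hC hi (hC.neg_lt hj1), hC.eta_neg hi hj1,
        hC.reflect_neg hi hj1, h1, h2, Int.cast_one, one_mul]

theorem nL_commute {J : List ℕ} (hJ : Orth D J) {i : ℕ} (hi : i ∈ J) :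
    ∀ l : List ℕ, (∀ a ∈ l, a ∈ J) → i ∉ l →
      ng hC (D.simple i) (1 : F) * nL hC F l = nL hC F l * ng hC (D.simple i) (1 : F) := by
  intro l
  induction l with
  | nil => intro _ _; simp [nL]
  | cons a l ih =>
    intro hl hil
    have hne : i ≠ a := fun e => hil (e ▸ List.mem_cons_self)
    have ha := hl a List.mem_cons_self
    have h1 := ng_conj_ng (F := F) hC (hJ.lt i hi) (hC.simple_lt (hJ.lt a ha)) 1
    rw [(eta_orth hC hK hJ hi ha hne).1, (eta_orth hC hK hJ hi ha hne).2, Int.cast_one, one_mul,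
      mul_inv_eq_iff_eq_mul] at h1
    rw [nL_cons, ← mul_assoc, h1, mul_assoc, ih (fun b hb => hl b (List.mem_cons_of_mem a hb))
      (fun h => hil (List.mem_cons_of_mem a h)), mul_assoc]

theorem nL_sq : ∀ l : List ℕ, Orth D l → nL hC F l * nL hC F l = tor D (negOn l) := by
  intro l
  induction l with
  | nil =>
    intro _
    rw [show (negOn [] : ℕ → Fˣ) = 1 from funext fun i => by simp [negOn], tor_one]
    simp [nL]
  | cons i l ih =>
    intro hl
    have hi : i < D.rank := hl.lt i List.mem_cons_self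
    have hni := (List.nodup_cons.1 hl.nodup).1
    have hcm := nL_commute (F := F) hC hK hl List.mem_cons_self l
      (fun a ha => List.mem_cons_of_mem _ ha) hni
    have hsq : ng hC (D.simple i) 1 * ng hC (D.simple i) (1 : F) =
        tor D (fun j => if j = i then -1 else 1) := by
      have h1 : hg hC (D.simple i) ((-1 : Fˣ) : F) =
          (ng hC (D.simple i) 1 * ng hC (D.simple i) (1 : F))⁻¹ := by
        rw [hg, Units.val_neg, Units.val_one, ← ng_inv hC _ (1 : F), mul_inv_rev]
      rw [← inv_inv (ng hC (D.simple i) 1 * ng hC (D.simple i) (1 : F)), ← h1, hg_simple hC hi,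
        tor_inv]
      congr 1
      funext j
      by_cases h : j = i <;> simp [h]
    calc nL hC F (i :: l) * nL hC F (i :: l)
        = ng hC (D.simple i) 1 * (nL hC F l * ng hC (D.simple i) 1) * nL hC F l := by
          rw [nL_cons]; group
      _ = (ng hC (D.simple i) 1 * ng hC (D.simple i) (1 : F)) * (nL hC F l * nL hC F l) := by
          rw [← hcm]; group
      _ = _ := by
        rw [hsq, ih hl.tail, tor_mul]
        congr 1
        funext j
        by_cases h : j = i
        · subst h; simp [negOn, hni]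
        · simp [negOn, h]

end word

theorem cartan_wL_orth {i : ℕ} (hi : i < D.rank) :
    ∀ l : List ℕ, (∀ a ∈ l, a < D.rank) → (∀ a ∈ l, D.cartan i (D.simple a) = 0) →
      ∀ r < D.nroots, D.cartan i (wL D l r) = D.cartan i r := by
  intro l
  induction l with
  | nil => intro _ _ r _; rfl
  | cons a l ih =>
    intro hl h0 r hr
    have hl' : ∀ b ∈ l, b < D.rank := fun b hb => hl b (List.mem_cons_of_mem a hb)
    show D.cartan i (D.reflectRoot a (wL D l r)) = _
    rw [hC.cartan_reflect (hl a List.mem_cons_self) hi (wL_lt hC hl' hr), h0 a List.mem_cons_self,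
      mul_zero, sub_zero, ih hl' (fun b hb => h0 b (List.mem_cons_of_mem a hb)) r hr]

theorem torChar_wL (c : ℕ → Fˣ) : ∀ l : List ℕ, Orth D l → ∀ r < D.nroots,
    torChar D c (wL D l r) =
      torChar D c r * ∏ a ∈ l.toFinset, torChar D c (D.simple a) ^ (-D.cartan a r) := by
  intro l
  induction l with
  | nil => intro _ r _; simp [wL]
  | cons i l ih =>
    intro hl r hr
    have hi : i < D.rank := hl.lt i List.mem_cons_self
    have hni := (List.nodup_cons.1 hl.nodup).1
    show torChar D c (D.reflectRoot i (wL D l r)) = _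
    rw [TorusCard.torChar_reflect hC _ hi (wL_lt hC hl.tail.lt hr), ih hl.tail r hr,
      cartan_wL_orth hC hi l hl.tail.lt (fun a ha => hl.zero i List.mem_cons_self a
        (List.mem_cons_of_mem i ha) (fun e => hni (e ▸ ha))) r hr,
      List.toFinset_cons, Finset.prod_insert (by simpa using hni), mul_comm (torChar D c (D.simple i) ^ _)]
    simp only [mul_assoc, mul_left_comm]

theorem sq_perm {c : ℕ → Fˣ} {L : List ℕ} (hL : ∀ i ∈ L, i < D.rank)
    (h : tor D c * nL hC F L * (tor D c * nL hC F L) = 1) {r : ℕ} (hr : r < D.nroots) :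
    wL D L (wL D L r) = r := by
  obtain ⟨c', hc'⟩ := nL_conj_tor (F := F) hC hL c
  have h2 : tor D (c * c') * nL hC F (L ++ L) = tor D 1 * nL hC F [] := by
    rw [tor_one, show nL hC F [] = 1 by simp [nL], one_mul, ← h, nL_append, ← tor_mul]
    calc tor D c * tor D c' * (nL hC F L * nL hC F L)
        = tor D c * (tor D c' * nL hC F L) * nL hC F L := by group
      _ = _ := by rw [← hc']; group
  rw [← wL_append]
  exact wL_congr hC (fun i hi => (List.mem_append.1 hi).elim (hL i) (hL i)) (by simp) h2 hr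

theorem mem_invSet {L : List ℕ} {r : ℕ} :
    r ∈ invSet D T L ↔ r < D.nroots ∧ 0 < T.phi r ∧ T.phi (wL D L r) < 0 := by
  simp [invSet]

theorem card_descend {L : List ℕ} (hL : ∀ i ∈ L, i < D.rank)
    (hinv : ∀ r < D.nroots, wL D L (wL D L r) = r) {i : ℕ} (hi : i < D.rank)
    (hneg : T.phi (wL D L (D.simple i)) < 0) (hne : wL D L (D.simple i) ≠ D.neg (D.simple i)) :
    (invSet D T (i :: L ++ [i])).card < (invSet D T L).card := by
  have hsi := hC.simple_lt hi
  have hwi := wL_lt hC hL hsi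
  have hw : ∀ r, wL D (i :: L ++ [i]) r = D.reflectRoot i (wL D L (D.reflectRoot i r)) :=
    fun r => wL_append (i :: L) [i] r
  have hmem : D.simple i ∈ invSet D T L := (mem_invSet hC).2 ⟨hsi, hC.phi_simple hi, hneg⟩
  refine lt_of_le_of_lt (Finset.card_le_card_of_injOn (D.reflectRoot i) ?_ ?_)
    (Finset.card_erase_lt_of_mem hmem)
  · intro r hr
    obtain ⟨hr, hp, hn⟩ := (mem_invSet hC).1 (Finset.mem_coe.1 hr)
    rw [hw] at hn
    have hrne : r ≠ D.simple i := by
      rintro rfl
      rw [hC.reflect_simple hi, wL_neg hC hL hsi] at hn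
      have h3 := hC.reflect_pos hi (hC.neg_lt hwi) (fun e => hne (by
        have := congrArg D.neg e; rwa [hC.neg_neg hwi] at this)) (by rw [hC.phi_neg hwi]; omega)
      omega
    have hs := hC.reflect_lt hi hr
    have hsp := hC.reflect_pos hi hr hrne hp
    refine Finset.mem_coe.2 (Finset.mem_erase.2 ⟨fun e => ?_, (mem_invSet hC).2 ⟨hs, hsp, ?_⟩⟩)
    · have h1 := hC.reflect_reflect hi hr
      rw [e, hC.reflect_simple hi] at h1
      rw [← h1, hC.phi_neg hsi] at hp
      have := hC.phi_simple hi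
      omega
    · by_contra hcon
      have hv := wL_lt hC hL hs
      have hvp : 0 < T.phi (wL D L (D.reflectRoot i r)) := by
        have := hC.phi_ne_zero hv; omega
      by_cases he : wL D L (D.reflectRoot i r) = D.simple i
      · have h1 := hinv _ hs
        rw [he] at h1
        rw [h1] at hneg
        omega
      · have := hC.reflect_pos hi hv he hvp
        omega
  · intro a ha b hb h
    have ha := ((mem_invSet hC).1 (Finset.mem_coe.1 ha)).1
    have hb := ((mem_invSet hC).1 (Finset.mem_coe.1 hb)).1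
    rw [← hC.reflect_reflect hi ha, h, hC.reflect_reflect hi hb]

theorem card_good {L : List ℕ} (hL : ∀ i ∈ L, i < D.rank)
    (hinv : ∀ r < D.nroots, wL D L (wL D L r) = r) {j : ℕ} (hj : j < D.rank)
    (he : wL D L (D.simple j) = D.neg (D.simple j)) :
    (invSet D T (j :: L)).card < (invSet D T L).card := by
  have hsj := hC.simple_lt hj
  have hps := hC.phi_simple hj
  have hmem : D.simple j ∈ invSet D T L :=
    (mem_invSet hC).2 ⟨hsj, hps, by rw [he, hC.phi_neg hsj]; omega⟩
  refine lt_of_le_of_lt (Finset.card_le_card ?_) (Finset.card_erase_lt_of_mem hmem)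
  intro r hr
  obtain ⟨hr, hp, hn⟩ := (mem_invSet hC).1 hr
  change T.phi (D.reflectRoot j (wL D L r)) < 0 at hn
  refine Finset.mem_erase.2 ⟨?_, (mem_invSet hC).2 ⟨hr, hp, ?_⟩⟩
  · rintro rfl
    rw [he, hC.reflect_neg hj hsj, hC.reflect_simple hj, hC.neg_neg hsj] at hn
    omega
  · by_contra hcon
    have hv := wL_lt hC hL hr
    have hvp : 0 < T.phi (wL D L r) := by have := hC.phi_ne_zero hv; omega
    by_cases h : wL D L r = D.simple j
    · have h1 := hinv r hr
      rw [h, he] at h1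
      rw [← h1, hC.phi_neg hsj] at hp
      omega
    · have := hC.reflect_pos hj hv h hvp
      omega

theorem wL_orth_pos {J : List ℕ} (hJ : Orth D J) {r : ℕ} (hr : r < D.nroots) (hp : 0 < T.phi r)
    (hne : ∀ j ∈ J, r ≠ D.simple j) :
    ∀ l : List ℕ, (∀ a ∈ l, a ∈ J) →
      0 < T.phi (wL D l r) ∧ ∀ j ∈ J, wL D l r ≠ D.simple j := by
  intro l
  induction l with
  | nil => exact fun _ => ⟨hp, hne⟩
  | cons i l ih =>
    intro hl
    obtain ⟨hp', hne'⟩ := ih fun a ha => hl a (List.mem_cons_of_mem i ha)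
    have hi := hl i List.mem_cons_self
    have hv : wL D l r < D.nroots :=
      wL_lt hC (fun a ha => hJ.lt a (hl a (List.mem_cons_of_mem i ha))) hr
    refine ⟨hC.reflect_pos (hJ.lt i hi) hv (hne' i hi) hp', fun j hj e => ?_⟩
    change D.reflectRoot i (wL D l r) = D.simple j at e
    have h1 := hC.reflect_reflect (hJ.lt i hi) hv
    rw [e] at h1
    by_cases hij : i = j
    · subst hij
      rw [hC.reflect_simple (hJ.lt i hi)] at h1
      rw [← h1, hC.phi_neg (hC.simple_lt (hJ.lt i hi))] at hp'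
      have := hC.phi_simple (hJ.lt i hi)
      omega
    · rw [reflect_fix hC (hJ.lt i hi) (hC.simple_lt (hJ.lt j hj)) (hJ.zero i hi j hj hij)] at h1
      exact hne' j hj h1.symm

theorem wL_orth_neg : ∀ l : List ℕ, Orth D l → ∀ j ∈ l,
    wL D l (D.neg (D.simple j)) = D.simple j := by
  intro l
  induction l with
  | nil => intro _ j hj; simp at hj
  | cons i l ih =>
    intro hl j hj
    have hi : i < D.rank := hl.lt i List.mem_cons_self
    have hni := (List.nodup_cons.1 hl.nodup).1
    show D.reflectRoot i (wL D l (D.neg (D.simple j))) = _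
    rcases List.mem_cons.1 hj with rfl | hj'
    · rw [wL_neg hC hl.tail.lt (hC.simple_lt hi), wL_fix hC hl.tail.lt (hC.simple_lt hi)
        (fun a ha => hl.zero a (List.mem_cons_of_mem _ ha) _ List.mem_cons_self
          (fun e => hni (e ▸ ha))), hC.reflect_neg hi (hC.simple_lt hi), hC.reflect_simple hi,
        hC.neg_neg (hC.simple_lt hi)]
    · rw [ih hl.tail j hj']
      exact reflect_fix hC hi (hC.simple_lt (hl.lt j hj))
        (hl.zero i List.mem_cons_self j hj fun e => hni (e ▸ hj'))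

variable [Fintype F]

/-- The parameter of an involution at a fundamental root that it negates. -/
theorem exists_param {c : ℕ → Fˣ} {L : List ℕ} (hL : ∀ i ∈ L, i < D.rank) {j : ℕ} (hj : j < D.rank)
    (he : wL D L (D.simple j) = D.neg (D.simple j)) :
    ∃ η : Fˣ, ∀ t : F, tor D c * nL hC F L * xg hC (D.simple j) t * (tor D c * nL hC F L)⁻¹ =
      xg hC (D.neg (D.simple j)) ((η : F) * t) := by
  obtain ⟨η, hη, e⟩ := conj_xg (F := F) hC hL c (hC.simple_lt hj)
  exact ⟨Units.mk0 η hη, fun t => by rw [e t, he, Units.val_mk0]⟩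

variable (hK : CartanOK D T)
include hK

theorem orth_false {c : ℕ → Fˣ} {J : List ℕ} (hJ : Orth D J) (hne : J ≠ [])
    (hm : tor D c * nL hC F J * (tor D c * nL hC F J) = 1)
    (hbad : ∀ j ∈ J, ∀ η : Fˣ, (∀ t : F, tor D c * nL hC F J * xg hC (D.simple j) t *
      (tor D c * nL hC F J)⁻¹ = xg hC (D.neg (D.simple j)) ((η : F) * t)) →
      ¬ IsSquare (η : F)) : False := by
  obtain ⟨c', hc', hχ⟩ := nL_conj_tor' (F := F) hC hJ.lt c
  have hq : ∀ j ∈ J, qch F (torChar D c (D.simple j)) = -qch F (-1) := by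
    intro j hj
    have hsj := hC.simple_lt (hJ.lt j hj)
    have h1 : ∀ t : F, tor D c * nL hC F J * xg hC (D.simple j) t * (tor D c * nL hC F J)⁻¹ =
        xg hC (D.neg (D.simple j)) (((-(torChar D c (D.simple j))⁻¹ : Fˣ) : F) * t) := by
      intro t
      rw [show tor D c * nL hC F J * xg hC (D.simple j) t * (tor D c * nL hC F J)⁻¹ =
        tor D c * (nL hC F J * xg hC (D.simple j) t * (nL hC F J)⁻¹) * (tor D c)⁻¹ by group,
        nL_neg_x hC hK J hJ j hj t, tor_conj_x hC _ _ _ (hC.neg_lt hsj), torChar_neg hC c hsj]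
      push_cast
      rw [mul_neg, neg_mul]
    have h2 := qch_eq_neg (hbad j hj _ h1)
    rw [← neg_one_mul (torChar D c (D.simple j))⁻¹, map_mul, map_inv] at h2
    rcases Int.units_eq_one_or (qch F (torChar D c (D.simple j))) with e | e <;>
      rcases Int.units_eq_one_or (qch F (-1 : Fˣ)) with e' | e' <;>
        rw [e, e'] at h2 <;> rw [e, e'] <;> revert h2 <;> decide
  classical
  obtain ⟨p, hp⟩ : ∃ p : Finset (Fin D.rank), p = Finset.univ.filter fun i : Fin D.rank => (i : ℕ) ∈ J :=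
    ⟨_, rfl⟩
  obtain ⟨j₀, hj₀⟩ := List.exists_mem_of_ne_nil J hne
  obtain ⟨⟨k, hk⟩, hodd⟩ := hK.mod2 p ⟨⟨j₀, hJ.lt _ hj₀⟩, by simp [hp, hj₀]⟩
  have hset : p.map ⟨Fin.val, Fin.val_injective⟩ = J.toFinset := by
    ext i
    simp only [hp, Finset.mem_map, Finset.mem_filter, Finset.mem_univ, true_and,
      Function.Embedding.coeFn_mk, List.mem_toFinset]
    exact ⟨fun ⟨a, ha, e⟩ => e ▸ ha, fun h => ⟨⟨i, hJ.lt i h⟩, h, rfl⟩⟩
  have hsum : (∑ a ∈ J.toFinset, D.cartan a (D.simple k)) % 2 = 1 := by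
    rw [← hset, Finset.sum_map]; exact hodd
  have hsk := hC.simple_lt hk
  have h1 : tor D c * tor D c' * tor D (negOn J) = 1 := by
    rw [← nL_sq hC hK J hJ, ← hc', ← hm]; group
  rw [tor_mul, tor_mul, ← tor_one (D := D) (F := F)] at h1
  have h2 := torChar_congr hC h1 hsk
  rw [torChar_one hC, torChar_mul hC, torChar_mul hC, hχ _ hsk,
    torChar_wL hC c _ hJ.reverse _ hsk, List.toFinset_reverse] at h2
  have h3 : torChar D (negOn J : ℕ → Fˣ) (D.simple k) =
      ∏ a ∈ J.toFinset, (-1 : Fˣ) ^ D.cartan a (D.simple k) := by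
    have hsub : J.toFinset ⊆ Finset.range D.rank := fun a ha =>
      Finset.mem_range.2 (hJ.lt a (List.mem_toFinset.1 ha))
    rw [torChar, ← Finset.prod_subset hsub (fun a _ ha => by
      rw [negOn, if_neg (fun h => ha (List.mem_toFinset.2 h)), one_zpow])]
    exact Finset.prod_congr rfl fun a ha => by rw [negOn, if_pos (List.mem_toFinset.1 ha)]
  rw [h3] at h2
  have h4 := congrArg (qch F) h2
  rw [map_mul, ← mul_assoc, map_mul, qch_sq, one_mul, map_prod, map_prod, map_one,
    ← Finset.prod_mul_distrib, Finset.prod_congr rfl fun a ha => show _ = (-1 : ℤˣ) ^ D.cartan a (D.simple k) by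
      rw [map_zpow, map_zpow, hq a (List.mem_toFinset.1 ha)]
      rcases Int.units_eq_one_or (qch F (-1 : Fˣ)) with e | e <;> rw [e] <;> simp] at h4
  rw [TorusCard.prod_zpow_sum, neg_one_zpow_odd hsum] at h4
  exact absurd h4 (by decide)

theorem exists_torus_aux (hF : Odd (Fintype.card F)) : ∀ (n : ℕ) (c : ℕ → Fˣ) (L : List ℕ),
    (∀ i ∈ L, i < D.rank) → (invSet D T L).card = n →
    tor D c * nL hC F L * (tor D c * nL hC F L) = 1 →
    ∃ h ∈ D.diagonalSubgroup F, Cj D (tor D c * nL hC F L) h := by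
  intro n
  induction n using Nat.strong_induction_on with
  | _ n ih =>
    intro c L hL hn hm
    have hinv : ∀ r < D.nroots, wL D L (wL D L r) = r := fun r hr => sq_perm hC hL hm hr
    by_cases hdesc : ∃ i < D.rank, T.phi (wL D L (D.simple i)) < 0 ∧
        wL D L (D.simple i) ≠ D.neg (D.simple i)
    · obtain ⟨i, hi, hneg, hne⟩ := hdesc
      have hiL : ∀ a ∈ i :: L, a < D.rank := fun a ha =>
        (List.mem_cons.1 ha).elim (fun e => e ▸ hi) (hL a)
      have hL' : ∀ a ∈ i :: L ++ [i], a < D.rank := fun a ha =>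
        (List.mem_append.1 ha).elim (hiL a) fun h => List.mem_singleton.1 h ▸ hi
      obtain ⟨d, hd⟩ := ng_sq (F := F) hC hi
      obtain ⟨c₁, e₁, -⟩ := ng_conj_tor hC hi c
      obtain ⟨d', e₂⟩ := nL_conj_tor (F := F) hC hiL d⁻¹
      obtain ⟨ν, hν⟩ : ∃ ν, ν = ng hC (D.simple i) (1 : F) := ⟨_, rfl⟩
      rw [← hν] at hd e₁
      have hcj : Cj D (tor D c * nL hC F L) (tor D (c₁ * d') * nL hC F (i :: L ++ [i])) := by
        refine ⟨ν, hν ▸ ng_mem_group hC (hC.simple_lt hi) _, ?_⟩
        rw [nL_append, nL_singleton, ← hν, ← tor_mul]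
        have hn' : ν⁻¹ = tor D d⁻¹ * ν := by
          rw [← tor_inv, ← hd, mul_inv_rev, inv_mul_cancel_right]
        calc ν * (tor D c * nL hC F L) * ν⁻¹
            = ν * tor D c * ν⁻¹ * (nL hC F (i :: L) * ν⁻¹) := by rw [nL_cons, ← hν]; group
          _ = tor D c₁ * (nL hC F (i :: L) * tor D d⁻¹ * ν) := by rw [e₁, hn', ← mul_assoc (nL hC F _)]
          _ = _ := by rw [e₂]; group
      obtain ⟨h, hh, hc2⟩ := ih _ (hn ▸ card_descend hC hL hinv hi hneg hne) _ _ hL' rfl
        (hcj.sq_one hm)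
      exact ⟨h, hh, hcj.trans hc2⟩
    simp only [not_exists, not_and, not_not] at hdesc
    obtain ⟨J₀, hJ₀⟩ : ∃ J₀, J₀ = (List.range D.rank).filter
        fun i => decide (wL D L (D.simple i) = D.neg (D.simple i)) := ⟨_, rfl⟩
    have hmemJ : ∀ {i}, i ∈ J₀ ↔ i < D.rank ∧ wL D L (D.simple i) = D.neg (D.simple i) := by
      intro i; simp [hJ₀]
    have hpos : ∀ i < D.rank, i ∉ J₀ → 0 < T.phi (wL D L (D.simple i)) := by
      intro i hi hiJ
      by_contra hcon
      have := hC.phi_ne_zero (wL_lt hC hL (hC.simple_lt hi))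
      exact hiJ (hmemJ.2 ⟨hi, hdesc i hi (by omega)⟩)
    by_cases hJnil : J₀ = []
    · obtain ⟨d, hd⟩ := exists_tor_of_pos (F := F) hC hL fun i hi => hpos i hi (by simp [hJnil])
      exact ⟨_, hd ▸ mul_mem (tor_mem_H hC c) (tor_mem_H hC d), Cj.refl _⟩
    -- a fundamental root whose parameter is a square
    have hgood : ∀ (c : ℕ → Fˣ), tor D c * nL hC F L * (tor D c * nL hC F L) = 1 →
        ∀ j ∈ J₀, ∀ η : Fˣ, (∀ t : F, tor D c * nL hC F L * xg hC (D.simple j) t *
          (tor D c * nL hC F L)⁻¹ = xg hC (D.neg (D.simple j)) ((η : F) * t)) →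
          IsSquare (η : F) → ∃ h ∈ D.diagonalSubgroup F, Cj D (tor D c * nL hC F L) h := by
      intro c hm j hj η hη hsq
      obtain ⟨hj, he⟩ := hmemJ.1 hj
      obtain ⟨a, hcj⟩ := good_twist hC (hC.simple_lt hj) (two_ne F hF) hm hη hsq
      obtain ⟨e, he'⟩ := ng_simple_eq (F := F) hC hj a.ne_zero
      obtain ⟨c₁, e₁, -⟩ := ng_conj_tor hC hj c
      have hjL : ∀ b ∈ j :: L, b < D.rank := fun b hb =>
        (List.mem_cons.1 hb).elim (fun e => e ▸ hj) (hL b)
      have hEq : ng hC (D.simple j) (a : F) * (tor D c * nL hC F L) =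
          tor D (e * c₁) * nL hC F (j :: L) := by
        rw [he', ← tor_mul, ← e₁, nL_cons]; group
      rw [hEq] at hcj
      obtain ⟨h, hh, hc2⟩ := ih _ (hn ▸ card_good hC hL hinv hj he) _ _ hjL rfl (hcj.sq_one hm)
      exact ⟨h, hh, hcj.trans hc2⟩
    by_cases hg : ∃ j ∈ J₀, ∃ η : Fˣ, (∀ t : F, tor D c * nL hC F L * xg hC (D.simple j) t *
        (tor D c * nL hC F L)⁻¹ = xg hC (D.neg (D.simple j)) ((η : F) * t)) ∧ IsSquare (η : F)
    · obtain ⟨j, hj, η, h1, h2⟩ := hg
      exact hgood c hm j hj η h1 h2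
    by_cases hodd : ∃ i ∈ J₀, ∃ j ∈ J₀, i ≠ j ∧ D.cartan i (D.simple j) % 2 = 1
    · obtain ⟨i, hi, j, hj, -, hij⟩ := hodd
      obtain ⟨hi', hei⟩ := hmemJ.1 hi
      obtain ⟨hj', hej⟩ := hmemJ.1 hj
      obtain ⟨ηi, hηi⟩ := exists_param (c := c) hC hL hi' hei
      obtain ⟨ηj, hηj⟩ := exists_param (c := c) hC hL hj' hej
      obtain ⟨a, ha⟩ : ∃ a : Fˣ, ¬ IsSquare (a : F) := by
        obtain ⟨x, hx⟩ := FiniteField.exists_nonsquare (F := F) (fun hr => two_ne F hF (by
          have := ringChar.Nat.cast_ringChar (R := F)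
          rw [hr] at this
          exact_mod_cast this))
        exact ⟨Units.mk0 x (fun h => hx (h ▸ IsSquare.zero)), hx⟩
      have hcj := flip_twist hC (hC.simple_lt hi') hF hm hηi a
      obtain ⟨δ, hδ⟩ : ∃ δ : ℕ → Fˣ, δ = fun b => if b = i then a else 1 := ⟨_, rfl⟩
      rw [hg_simple hC hi', ← hδ, ← mul_assoc, tor_mul] at hcj
      have hη' : ∀ t : F, tor D (δ * c) * nL hC F L * xg hC (D.simple j) t *
          (tor D (δ * c) * nL hC F L)⁻¹ = xg hC (D.neg (D.simple j))
            (((torChar D δ (D.neg (D.simple j)) * ηj : Fˣ) : F) * t) := by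
        intro t
        rw [← tor_mul, show tor D δ * tor D c * nL hC F L * xg hC (D.simple j) t *
          (tor D δ * tor D c * nL hC F L)⁻¹ = tor D δ * (tor D c * nL hC F L * xg hC (D.simple j) t *
            (tor D c * nL hC F L)⁻¹) * (tor D δ)⁻¹ by group, hηj,
          tor_conj_x hC _ _ _ (hC.neg_lt (hC.simple_lt hj')), Units.val_mul, mul_assoc]
      have hsq : IsSquare ((torChar D δ (D.neg (D.simple j)) * ηj : Fˣ) : F) := by
        rw [← qch_eq_one, map_mul, qch_eq_neg (u := ηj) (fun h => hg ⟨j, hj, ηj, hηj, h⟩),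
          torChar_neg hC _ (hC.simple_lt hj'), map_inv, torChar, map_prod,
          Finset.prod_eq_single i (fun b _ hb => by simp [hδ, hb])
            (fun h => absurd (Finset.mem_range.2 hi') h), map_zpow, show δ i = a by simp [hδ], qch_eq_neg ha,
          neg_one_zpow_odd hij]
        decide
      obtain ⟨h, hh, hc2⟩ := hgood (δ * c) (hcj.sq_one hm) j hj _ hη' hsq
      exact ⟨h, hh, hcj.trans hc2⟩
    exfalso
    simp only [not_exists, not_and] at hodd hg
    have hJo : Orth D J₀ := ⟨fun i hi => (hmemJ.1 hi).1, hJ₀ ▸ List.nodup_range.filter _,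
      fun i hi j hj hne => hK.orth ⟨i, (hmemJ.1 hi).1⟩ ⟨j, (hmemJ.1 hj).1⟩
        (fun e => hne (congrArg Fin.val e))
        (by have := hodd i hi j hj hne; simp only; omega)
        (by have := hodd j hj i hi (Ne.symm hne); simp only; omega)⟩
    have hJL : ∀ i ∈ J₀ ++ L, i < D.rank := fun i hi =>
      (List.mem_append.1 hi).elim (hJo.lt i) (hL i)
    have hid : ∀ r < D.nroots, wL D (J₀ ++ L) r = r := by
      refine fun r hr => wL_eq_self_of_pos hC hJL (fun k hk => ?_) hr
      rw [wL_append]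
      by_cases hkJ : k ∈ J₀
      · rw [(hmemJ.1 hkJ).2, wL_orth_neg hC J₀ hJo k hkJ]
        exact hC.phi_simple hk
      · refine (wL_orth_pos hC hJo (wL_lt hC hL (hC.simple_lt hk)) (hpos k hk hkJ) (fun j hj e => ?_)
          J₀ (fun a ha => ha)).1
        have h1 := hinv _ (hC.simple_lt hk)
        rw [e, (hmemJ.1 hj).2] at h1
        have := hC.phi_simple hk
        have := hC.phi_simple (hJo.lt j hj)
        rw [← h1, hC.phi_neg (hC.simple_lt (hJo.lt j hj))] at *
        omega
    have hEqv : Eqv D L J₀.reverse := fun r hr => by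
      conv_rhs => rw [← hid r hr, wL_append, wL_reverse hC hJo.lt (wL_lt hC hL hr)]
    obtain ⟨d, hd⟩ := Order.nL_eq_tor_mul (F := F) hC hL hJo.reverse.lt hEqv
    simp only [hd, ← mul_assoc (tor D c) (tor D d), tor_mul] at hm hg
    refine orth_false hC hK hJo.reverse (fun h => hJnil (List.reverse_eq_nil_iff.1 h)) hm ?_
    intro j hj η hη
    exact hg j (List.mem_reverse.1 hj) η hη

/-- Every involution is conjugate into the torus. -/
theorem exists_torus (hF : Odd (Fintype.card F)) {t : GL D.Idx F} (ht : t ∈ D.group F)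
    (h2 : t * t = 1) : ∃ h ∈ D.diagonalSubgroup F, Cj D t h ∧ h * h = 1 := by
  obtain ⟨m, hmN, hc1, hm⟩ := exists_monomial hC hF ht h2
  obtain ⟨c, L, hL, rfl⟩ := (mem_N_iff hC).1 hmN
  obtain ⟨h, hh, hc2⟩ := exists_torus_aux hC hK hF _ c L hL rfl hm
  exact ⟨h, hh, hc1.trans hc2, hc2.sq_one hm⟩

end Cfsg.Agent.GroupStructure3.OddInvol
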