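import Cfsg.Agent.GroupStructure3.OddInvol.Enum
import Cfsg.Agent.GroupStructure3.OddInvol.Reduce

/-!
The order of the centralizer of an involution of the torus, and the classes of involutions.
-/

set_option autoImplicit false

open scoped Matrix

namespace Cfsg.Agent.GroupStructure3.OddInvol

open Cfsg.Lie Cfsg.Agent.Chevalley Cfsg.Agent.Chevalley.Table Cfsg.Agent.Chevalley.Check
  Cfsg.Agent.Chevalley.Cert Cfsg.Agent.Chevalley.Eval Cfsg.Agent.Chevalley.Group
  Cfsg.Agent.Chevalley.Unip Cfsg.Agent.Chevalley.Borel Cfsg.Agent.Chevalley.Weyl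
  Cfsg.Agent.Chevalley.WeylEnum Cfsg.Agent.Chevalley.NormalForm

variable {D : ChevalleyDatum} {F : Type*} [Field F] {T : Tab}
variable (hC : Certified D T)
include hC

theorem tor_conj_prodX (c : ℕ → Fˣ) : ∀ (L : List ℕ), (∀ r ∈ L, r < D.nroots) → ∀ f : ℕ → F,
    tor D c * prodX hC L f * (tor D c)⁻¹ = prodX hC L (fun r => (torChar D c r : F) * f r) := by
  intro L
  induction L with
  | nil => intro _ f; simp [prodX]
  | cons a L ih =>
    intro hL f
    have e : ∀ g : ℕ → F, prodX hC (a :: L) g = xg hC a (g a) * prodX hC L g := fun g => by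
      simp [prodX]
    rw [e, e, ← ih (fun r hr => hL r (List.mem_cons_of_mem a hr)) f,
      ← tor_conj_x hC c a (f a) (hL a List.mem_cons_self)]
    group

theorem prodX_filter (p : ℕ → Bool) : ∀ (L : List ℕ) (f : ℕ → F),
    (∀ r ∈ L, p r = false → f r = 0) → prodX hC L f = prodX hC (L.filter p) f := by
  intro L
  induction L with
  | nil => intro f _; rfl
  | cons a L ih =>
    intro f hf
    have e : ∀ L' : List ℕ, prodX hC (a :: L') f = xg hC a (f a) * prodX hC L' f := fun L' => by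
      simp [prodX]
    rw [e, ih f (fun r hr => hf r (List.mem_cons_of_mem a hr)), List.filter_cons]
    by_cases hp : p a = true
    · rw [if_pos hp, e]
    · rw [if_neg hp, hf a List.mem_cons_self (by simpa using hp), xg_zero, one_mul]

variable {cols : List ℕ} {ε₀ : ℕ}

theorem card_fixed [Fintype F] (h2 : (2 : F) ≠ 0) {c : ℕ → Fˣ} (hm : HasMask D cols c ε₀)
    {P : List ℕ} (hs : P.Pairwise (· < ·)) (hP : ∀ r ∈ P, r < D.nroots ∧ 0 < T.phi r)
    {K : Subgroup (GL D.Idx F)} (hmem : ∀ f : ℕ → F, prodX hC P f ∈ K)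
    (hsurj : ∀ g ∈ K, ∃ f : ℕ → F, g = prodX hC P f) :
    Nat.card ↥(K ⊓ Subgroup.centralizer {tor D c}) =
      Fintype.card F ^ (P.filter fun r => decide (par cols ε₀ r = 0)).length := by
  classical
  rw [← Nat.card_eq_fintype_card]
  refine Count.card_prodX hC (hs.filter _) (fun r hr => hP r (List.mem_filter.1 hr).1) (fun f => ?_)
    (fun g hg => ?_)
  · refine Subgroup.mem_inf.2 ⟨?_, list_prod_mem fun g hg => ?_⟩
    · obtain ⟨f', hf'⟩ : ∃ f' : ℕ → F, f' = fun r => if par cols ε₀ r = 0 then f r else 0 := ⟨_, rfl⟩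
      have e : prodX hC (P.filter fun r => decide (par cols ε₀ r = 0)) f = prodX hC P f' := by
        rw [prodX_filter hC (fun r => decide (par cols ε₀ r = 0)) P f' (fun r _ hr => by
          rw [hf']; simp only [decide_eq_false_iff_not] at hr; simp [hr])]
        exact prodX_congr hC fun r hr => by
          rw [hf']; simp [of_decide_eq_true (List.mem_filter.1 hr).2]
      exact e ▸ hmem f'
    · obtain ⟨r, hr, rfl⟩ := List.mem_map.1 hg
      obtain ⟨hrP, hr0⟩ := List.mem_filter.1 hr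
      refine Subgroup.mem_centralizer_iff.2 ?_
      rintro _ rfl
      have e := tor_conj_x hC c r (f r) (hP r hrP).1
      rwa [hm r (hP r hrP).1, of_decide_eq_true hr0, sg_zero, Units.val_one, one_mul,
        mul_inv_eq_iff_eq_mul] at e
  · obtain ⟨hgK, hgc⟩ := Subgroup.mem_inf.1 hg
    obtain ⟨f, rfl⟩ := hsurj g hgK
    refine ⟨f, prodX_filter hC _ P f fun r hr hpar => ?_⟩
    have e := tor_conj_prodX hC c P (fun r hr => (hP r hr).1) f
    rw [Subgroup.mem_centralizer_iff.1 hgc _ (Set.mem_singleton _), mul_inv_cancel_right] at e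
    have h1 := prodX_inj hC hs hP e r hr
    simp only [decide_eq_false_iff_not] at hpar
    rw [hm r (hP r hr).1, (cases2 _).resolve_left hpar, sg_one] at h1
    simp at h1
    exact (mul_eq_zero.1 (show (2 : F) * f r = 0 by linear_combination h1)).resolve_left h2

theorem prodX_mem_Uminus {L : List ℕ} (hL : ∀ i ∈ L, i < D.rank) (f : ℕ → F) :
    prodX hC (invList D T L) f ∈ Uminus D F (tor D 1 * nL hC F L) := by
  rw [Uminus_eq hC hL 1]
  refine list_prod_mem fun g hg => ?_
  obtain ⟨r, hr, rfl⟩ := List.mem_map.1 hg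
  exact Subgroup.subset_closure ⟨r, _, hr, rfl⟩

theorem invList_props (L : List ℕ) :
    (invList D T L).Pairwise (· < ·) ∧ ∀ r ∈ invList D T L, r < D.nroots ∧ 0 < T.phi r :=
  ⟨posRoots_sorted.filter _, fun _ hr =>
    ⟨((mem_invList hC).1 hr).1, ((mem_invList hC).1 hr).2.1⟩⟩

theorem exists_prodX_Uminus [Fintype F] {L : List ℕ} (hL : ∀ i ∈ L, i < D.rank)
    {g : GL D.Idx F} (hg : g ∈ Uminus D F (tor D 1 * nL hC F L)) :
    ∃ f : ℕ → F, g = prodX hC (invList D T L) f := by
  classical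
  obtain ⟨hs, hP⟩ := invList_props hC L
  let ext : ((invList D T L).toFinset → F) → ℕ → F := fun t r =>
    if h : r ∈ (invList D T L).toFinset then t ⟨r, h⟩ else 0
  let f : ((invList D T L).toFinset → F) → Uminus D F (tor D 1 * nL hC F L) := fun t =>
    ⟨prodX hC (invList D T L) (ext t), prodX_mem_Uminus hC hL _⟩
  have hinj : Function.Injective f := by
    intro t t' h
    funext ⟨r, hr⟩
    have := prodX_inj hC hs hP (congrArg Subtype.val h) r (List.mem_toFinset.1 hr)
    simpa only [ext, dif_pos hr] using this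
  have hcard : Nat.card ((invList D T L).toFinset → F) =
      Nat.card (Uminus D F (tor D 1 * nL hC F L)) := by
    rw [Order.card_Uminus hC hL, Nat.card_fun, Nat.card_eq_finsetCard,
      List.toFinset_card_of_nodup (hs.imp ne_of_lt), Order.invList_length hC, Nat.card_eq_fintype_card]
  obtain ⟨t, ht⟩ := (hinj.bijective_of_nat_card_le hcard.ge).2 ⟨g, hg⟩
  exact ⟨ext t, (congrArg Subtype.val ht).symm⟩

theorem Uminus_conj_tor {L : List ℕ} (hL : ∀ i ∈ L, i < D.rank) (c : ℕ → Fˣ) {h u : GL D.Idx F}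
    (hh : h ∈ D.diagonalSubgroup F) (hu : u ∈ Uminus D F (tor D c * nL hC F L)) :
    h * u * h⁻¹ ∈ Uminus D F (tor D c * nL hC F L) := by
  rw [Uminus_eq hC hL c] at hu ⊢
  have := H_le_normalizer (F := F) (P := fun r => r ∈ invList D T L) hC hh
  have e : {g : GL D.Idx F | ∃ (r : ℕ) (t : F), r < D.nroots ∧ r ∈ invList D T L ∧ g = xg hC r t} =
      {g : GL D.Idx F | ∃ (r : ℕ) (t : F), r ∈ invList D T L ∧ g = xg hC r t} := by
    ext g
    exact ⟨fun ⟨r, t, _, hr, e⟩ => ⟨r, t, hr, e⟩,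
      fun ⟨r, t, hr, e⟩ => ⟨r, t, ((mem_invList hC).1 hr).1, hr, e⟩⟩
  rw [e] at this
  exact (Subgroup.mem_normalizer_iff.1 this u).1 hu

variable [Fintype F] (hcols : colsChk T cols = true)
include hcols

open Classical in
theorem card_centralizer (h2 : (2 : F) ≠ 0) {Ls : List Lev} (hLs : chainLevChk T Ls = true)
    (htop : topChk T Ls = true) (hε : ε₀ < 2 ^ D.rank) {c : ℕ → Fˣ}
    (hm : HasMask D cols c ε₀) {s : D.group F} (hs : (s : GL D.Idx F) = tor D c) :
    Nat.card (Subgroup.centralizer ({s} : Set (D.group F))) =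
      Fintype.card F ^ (D.posRoots.filter fun r => decide (par cols ε₀ r = 0)).length *
        Nat.card (D.diagonalSubgroup F) * SP T cols ε₀ (Fintype.card F) Ls ε₀ := by
  obtain ⟨E, hE1, hE2, hE3, hE4⟩ := exists_enum_stab hC hcols ε₀ (Fintype.card F) hε Ls hLs
  have hall : ∀ i, i < D.rank → i ∈ lettersOf Ls := fun i hi =>
    (memB_iff _).1 (of_allR htop i (by rw [hC.l_eq]; exact hi))
  have hJ : ∀ i ∈ lettersOf Ls, i < D.rank := by
    cases Ls with
    | nil => intro i hi; exact absurd hi List.not_mem_nil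
    | cons L rest =>
      simp only [chainLevChk, Bool.and_eq_true] at hLs
      exact J_lt hC hLs.1
  have hEr : ∀ k : Fin E.length, ∀ i ∈ E[k.1], i < D.rank :=
    fun k i hi => hJ i (hE1 _ (List.getElem_mem k.2) i hi)
  obtain ⟨C, hCd⟩ : ∃ C : Subgroup (GL D.Idx F), C = Subgroup.centralizer {tor D c} := ⟨_, rfl⟩
  have hCiff : ∀ g : GL D.Idx F, g ∈ C ↔ tor D c * g = g * tor D c := fun g => by
    rw [hCd, Subgroup.mem_centralizer_iff]; simp
  have hn : ∀ k : Fin E.length, tor D 1 * nL hC F E[k.1] ∈ D.monomialSubgroup F := fun k =>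
    mem_N hC (hEr k) 1
  have hnC : ∀ k : Fin E.length, HasPull D cols ε₀ ε₀ E[k.1] →
      tor D 1 * nL hC F E[k.1] ∈ C := by
    intro k hp
    obtain ⟨c', e, hc'⟩ := nL_conj_tor' (F := F) hC (hEr k) c
    have hr : ∀ i ∈ E[k.1].reverse, i < D.rank := fun i hi => hEr k i (List.mem_reverse.1 hi)
    have : tor D c' = tor D c := by
      refine tor_ext hC fun i hi => ?_
      have hsi := hC.simple_lt hi
      rw [hc' _ hsi, hm _ (wL_lt hC hr hsi), hm _ hsi, ← hp _ (wL_lt hC hr hsi),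
        show wL D E[k.1] (wL D E[k.1].reverse (D.simple i)) = D.simple i by
          simpa using wL_reverse hC hr hsi]
    rw [this, mul_inv_eq_iff_eq_mul] at e
    rw [hCiff, tor_one, one_mul, e]
  let I : Type := {k : Fin E.length // HasPull D cols ε₀ ε₀ E[k.1]}
  let β : I → Type _ := fun k =>
    (↥(D.posUnipotent F ⊓ C) × ↥(D.diagonalSubgroup F)) ×
      ↥(Uminus D F (tor D 1 * nL hC F E[k.1.1]) ⊓ C)
  have hHC : ∀ h ∈ D.diagonalSubgroup F, h ∈ C := fun h hh =>
    (hCiff h).2 (H_comm hC (tor_mem_H hC c) hh)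
  have hUB : D.posUnipotent F ≤ D.borelSubgroup F := le_sup_left
  have hmemG : ∀ p : Σ k, β k, ((p.2.1.1 : GL D.Idx F) * (p.2.1.2 : GL D.Idx F)) *
      (tor D 1 * nL hC F E[p.1.1.1]) * (p.2.2 : GL D.Idx F) ∈ D.group F := fun p =>
    mul_mem (mul_mem (B_le_group hC (mul_mem (hUB p.2.1.1.2.1) (Subgroup.mem_sup_right p.2.1.2.2)))
      (N_le_group hC (hn p.1.1))) (B_le_group hC (hUB (Uminus_le_U hC _ p.2.2.2.1)))
  have hmemC : ∀ p : Σ k, β k, (⟨_, hmemG p⟩ : D.group F) ∈
      Subgroup.centralizer ({s} : Set (D.group F)) := by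
    intro p
    refine Subgroup.mem_centralizer_iff.2 ?_
    rintro _ rfl
    refine Subtype.ext ?_
    rw [Subgroup.coe_mul, Subgroup.coe_mul, hs]
    exact (hCiff _).1 (mul_mem (mul_mem (mul_mem p.2.1.1.2.2 (hHC _ p.2.1.2.2)) (hnC p.1.1 p.1.2))
      p.2.2.2.2)
  let f : (Σ k, β k) → Subgroup.centralizer ({s} : Set (D.group F)) := fun p =>
    ⟨⟨_, hmemG p⟩, hmemC p⟩
  have hf : Function.Bijective f := by
    constructor
    · rintro ⟨⟨k, hk⟩, ⟨v, h⟩, u⟩ ⟨⟨k', hk'⟩, ⟨v', h'⟩, u'⟩ hh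
      have he := congrArg Subtype.val (congrArg Subtype.val hh)
      obtain ⟨h1, h3⟩ := unique_form hC (mul_mem (hUB v.2.1) (Subgroup.mem_sup_right h.2))
        (mul_mem (hUB v'.2.1) (Subgroup.mem_sup_right h'.2)) (hn k) (hn k') u.2.1 u'.2.1 he
      obtain ⟨d, hd⟩ := (mem_H_iff hC).1 h1
      obtain ⟨d', hd'⟩ := nL_conj_tor (F := F) hC (hEr k) d
      have heq : Eqv D E[k.1] E[k'.1] := fun r hr => by
        refine (wL_congr hC (c := 1) (c' := d') (hEr k') (hEr k) ?_ hr).symm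
        rw [← hd', ← hd, tor_one, one_mul, one_mul]
        group
      obtain rfl : k = k' := by
        rcases lt_trichotomy k.1 k'.1 with hlt | heq' | hlt
        · exact absurd heq (List.pairwise_iff_getElem.1 hE3 _ _ k.2 k'.2 hlt)
        · exact Fin.ext heq'
        · exact absurd (fun r hr => (heq r hr).symm)
            (List.pairwise_iff_getElem.1 hE3 _ _ k'.2 k.2 hlt)
      obtain ⟨hb, hu⟩ := h3 rfl
      have hvv : (v' : GL D.Idx F)⁻¹ * v = h' * (h : GL D.Idx F)⁻¹ := by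
        calc (v' : GL D.Idx F)⁻¹ * v = (v' : GL D.Idx F)⁻¹ * (v * h) * (h : GL D.Idx F)⁻¹ := by group
          _ = _ := by rw [hb]; group
      have h1v : (v' : GL D.Idx F)⁻¹ * v ∈ (⊥ : Subgroup (GL D.Idx F)) := by
        rw [← U_inf_H hC, Subgroup.mem_inf]
        exact ⟨mul_mem (inv_mem v'.2.1) v.2.1, hvv ▸ mul_mem h'.2 (inv_mem h.2)⟩
      rw [Subgroup.mem_bot, inv_mul_eq_one] at h1v
      obtain rfl : v' = v := Subtype.ext h1v
      obtain rfl : h = h' := Subtype.ext (mul_left_cancel hb)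
      obtain rfl : u = u' := Subtype.ext hu
      rfl
    · rintro ⟨⟨g, hgG⟩, hg⟩
      have hgc : tor D c * g = g * tor D c := by
        have := congrArg Subtype.val (Subgroup.mem_centralizer_iff.1 hg s (Set.mem_singleton _))
        rw [Subgroup.coe_mul, Subgroup.coe_mul, hs] at this
        exact this
      obtain ⟨b, hb, n, hnN, u, hu, rfl⟩ := exists_form hC hgG
      obtain ⟨v, hv, k₀, hk₀, rfl⟩ := (mem_B_iff hC).1 hb
      obtain ⟨d, L, hL, rfl⟩ := (mem_N_iff hC).1 hnN
      obtain ⟨n, hnd⟩ : ∃ n, n = tor D d * nL hC F L := ⟨_, rfl⟩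
      obtain ⟨t, htd⟩ : ∃ t, t = tor D c := ⟨_, rfl⟩
      have htH : t ∈ D.diagonalSubgroup F := htd ▸ tor_mem_H hC c
      simp only [← hnd, ← htd] at hgc hnN hu
      obtain ⟨k', hk'd⟩ : ∃ k', k' = t * (n * t⁻¹ * n⁻¹) := ⟨_, rfl⟩
      have hk' : k' ∈ D.diagonalSubgroup F :=
        hk'd ▸ mul_mem htH (Bruhat.H_conj hC hnN (inv_mem htH))
      have hv' : t * v * t⁻¹ ∈ D.posUnipotent F :=
        (Subgroup.mem_normalizer_iff.1 (H_normalizes_U hC htH) v).1 hv
      have hu' : t * u * t⁻¹ ∈ Uminus D F n := by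
        rw [hnd]; exact Uminus_conj_tor hC hL d htH (hnd ▸ hu)
      have hk00 : t * k₀ = k₀ * t := H_comm hC htH hk₀
      have e : v * k₀ * n * u = t * v * t⁻¹ * k₀ * k' * n * (t * u * t⁻¹) :=
        calc v * k₀ * n * u = (v * k₀ * n * u * t) * t⁻¹ := by group
          _ = (t * (v * k₀ * n * u)) * t⁻¹ := by rw [hgc]
          _ = t * v * t⁻¹ * (t * k₀) * n * u * t⁻¹ := by group
          _ = t * v * t⁻¹ * (k₀ * t) * n * u * t⁻¹ := by rw [hk00]
          _ = _ := by rw [hk'd]; group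
      obtain ⟨hb1, hu1⟩ := (unique_form hC hb
        (mul_mem (mul_mem (hUB hv') (Subgroup.mem_sup_right hk₀)) (Subgroup.mem_sup_right hk'))
        hnN hnN hu hu' e).2 rfl
      have hvv : (t * v * t⁻¹)⁻¹ * v = k₀ * k' * k₀⁻¹ := by
        calc (t * v * t⁻¹)⁻¹ * v = (t * v * t⁻¹)⁻¹ * (v * k₀) * k₀⁻¹ := by group
          _ = _ := by rw [hb1]; group
      have h1 : (t * v * t⁻¹)⁻¹ * v ∈ (⊥ : Subgroup (GL D.Idx F)) := by
        rw [← U_inf_H hC, Subgroup.mem_inf]
        exact ⟨mul_mem (inv_mem hv') hv, hvv ▸ mul_mem (mul_mem hk₀ hk') (inv_mem hk₀)⟩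
      rw [Subgroup.mem_bot] at h1
      have hk1 : k' = 1 := by
        rw [h1] at hvv
        calc k' = k₀⁻¹ * (k₀ * k' * k₀⁻¹) * k₀ := by group
          _ = 1 := by rw [← hvv]; group
      have hnc : n * t * n⁻¹ = t := by
        calc n * t * n⁻¹ = (t * (n * t⁻¹ * n⁻¹))⁻¹ * t := by group
          _ = t := by rw [← hk'd, hk1, inv_one, one_mul]
      have hvC : v ∈ C := by
        rw [hCiff, ← htd, ← mul_inv_eq_iff_eq_mul]
        exact inv_mul_eq_one.1 h1
      have huC : u ∈ C := by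
        rw [hCiff, ← htd, ← mul_inv_eq_iff_eq_mul]
        exact hu1.symm
      obtain ⟨c', ec, hc'⟩ := nL_conj_tor' (F := F) hC hL c
      have htor : tor D c' = tor D c := by
        rw [← ec, ← htd]
        calc nL hC F L * t * (nL hC F L)⁻¹
            = (tor D d)⁻¹ * (n * t * n⁻¹) * tor D d := by rw [hnd]; group
          _ = _ := by rw [hnc, mul_assoc, H_comm hC htH (tor_mem_H hC d)]; group
      have hp : HasPull D cols ε₀ ε₀ L := fun r hr => by
        have hw := wL_lt hC hL hr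
        have h := torChar_congr hC htor hw
        rw [hc' _ hw, wL_reverse hC hL hr, hm _ hr, hm _ hw] at h
        exact (sg_inj h2 h).symm
      obtain ⟨el, hel, hLe⟩ := hE2 L fun i hi => hall i (hL i hi)
      obtain ⟨k, hk, rfl⟩ := List.getElem_of_mem hel
      obtain ⟨d', hd'⟩ := Order.nL_eq_tor_mul (F := F) hC hL (hEr ⟨k, hk⟩) hLe
      have hu2 : u ∈ Uminus D F (tor D 1 * nL hC F E[k]) := by
        rw [← Order.Uminus_congr hC hL (hEr ⟨k, hk⟩) hLe d 1, ← hnd]; exact hu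
      refine ⟨⟨⟨⟨k, hk⟩, fun r hr => (congrArg (par cols ε₀) (hLe r hr)).symm.trans (hp r hr)⟩,
        (⟨v, hv, hvC⟩, ⟨k₀ * tor D (d * d'), mul_mem hk₀ (tor_mem_H hC _)⟩), ⟨u, hu2, huC⟩⟩,
        Subtype.ext (Subtype.ext ?_)⟩
      show v * (k₀ * tor D (d * d')) * (tor D 1 * nL hC F E[k]) * u =
        v * k₀ * (tor D d * nL hC F L) * u
      rw [hd', tor_one, ← tor_mul]
      group
  have hU : Nat.card ↥(D.posUnipotent F ⊓ C) =
      Fintype.card F ^ (D.posRoots.filter fun r => decide (par cols ε₀ r = 0)).length := by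
    rw [hCd]
    refine card_fixed hC h2 hm posRoots_sorted (fun _ hr => (mem_posRoots hC).1 hr) (fun f => ?_)
      (fun g hg => exists_prodX hC hg)
    rw [← Uge_zero hC]
    exact prodX_mem hC fun r hr =>
      ⟨((mem_posRoots hC).1 hr).1, ((mem_posRoots hC).1 hr).2, Nat.zero_le r⟩
  have hUm : ∀ k : Fin E.length, Nat.card ↥(Uminus D F (tor D 1 * nL hC F E[k.1]) ⊓ C) =
      Fintype.card F ^ (invT D T cols ε₀ E[k.1]).card := by
    intro k
    obtain ⟨hs', hP⟩ := invList_props hC E[k.1]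
    rw [hCd, card_fixed hC h2 hm hs' hP (prodX_mem_Uminus hC (hEr k))
      (fun g hg => exists_prodX_Uminus hC (hEr k) hg),
      ← List.toFinset_card_of_nodup ((hs'.imp ne_of_lt).filter _)]
    congr 2
    ext r
    simp [invT, invSet, mem_invList hC]
  rw [← Nat.card_congr (Equiv.ofBijective f hf), Nat.card_sigma]
  simp only [β, Nat.card_prod, hU, hUm]
  rw [← Finset.mul_sum, ← hE4 ε₀ hε]
  congr 1
  rw [← Finset.sum_subtype (Finset.univ.filter fun k : Fin E.length => HasPull D cols ε₀ ε₀ E[k.1])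
    (fun k => by simp) (fun k => Fintype.card F ^ (invT D T cols ε₀ E[k.1]).card), Finset.sum_filter]
  conv_rhs => rw [← List.ofFn_getElem (xs := E), List.map_ofFn, List.sum_ofFn]
  rfl

end Cfsg.Agent.GroupStructure3.OddInvol
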