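import Cfsg.Agent.GroupStructure3.OddInvol.Main
import Cfsg.Agent.GroupStructure3.OddInvol.E8Data
import Cfsg.Agent.Lib.Chevalley.Types.OrderE8

/-! The involutions of type E8 in odd characteristic: the finite checks and the classes. -/

set_option autoImplicit false

namespace Cfsg.Agent.GroupStructure3.OddInvol.E8

open Cfsg.Lie Cfsg.Agent.Chevalley Cfsg.Agent.Chevalley.Table Cfsg.Agent.Chevalley.Check
  Cfsg.Agent.Chevalley.Cert Cfsg.Agent.Chevalley.WeylEnum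

theorem cartan_ok : CartanOK chevE8 Cfsg.Agent.Chevalley.Data.E8.tab where
  orth := by decide +kernel
  eta := by decide +kernel
  mod2 := by decide +kernel

theorem cols_ok : colsChk Cfsg.Agent.Chevalley.Data.E8.tab E8Data.cols = true := by decide +kernel

theorem class_ok : classChk Cfsg.Agent.Chevalley.Data.E8.tab E8Data.cols 1 3 E8Data.words = true := by decide +kernel

theorem inv1_ok : invsChk Cfsg.Agent.Chevalley.Data.E8.tab Cfsg.Agent.Chevalley.Data.WE8.lev1.reps E8Data.inv1 = true := by decide +kernel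

theorem inv2_ok : invsChk Cfsg.Agent.Chevalley.Data.E8.tab Cfsg.Agent.Chevalley.Data.WE8.lev2.reps E8Data.inv2 = true := by decide +kernel

theorem inv3_ok : invsChk Cfsg.Agent.Chevalley.Data.E8.tab Cfsg.Agent.Chevalley.Data.WE8.lev3.reps E8Data.inv3 = true := by decide +kernel

theorem inv4_ok : invsChk Cfsg.Agent.Chevalley.Data.E8.tab Cfsg.Agent.Chevalley.Data.WE8.lev4.reps E8Data.inv4 = true := by decide +kernel

theorem inv5_ok : invsChk Cfsg.Agent.Chevalley.Data.E8.tab Cfsg.Agent.Chevalley.Data.WE8.lev5.reps E8Data.inv5 = true := by decide +kernel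

theorem inv6_ok : invsChk Cfsg.Agent.Chevalley.Data.E8.tab Cfsg.Agent.Chevalley.Data.WE8.lev6.reps E8Data.inv6 = true := by decide +kernel

theorem inv7_ok : invsChk Cfsg.Agent.Chevalley.Data.E8.tab Cfsg.Agent.Chevalley.Data.WE8.lev7.reps E8Data.inv7 = true := by decide +kernel

theorem inv8_ok : invsChk Cfsg.Agent.Chevalley.Data.E8.tab Cfsg.Agent.Chevalley.Data.WE8.lev8.reps E8Data.inv8 = true := by decide +kernel

theorem tab1_0_ok : TabOK Cfsg.Agent.Chevalley.Data.E8.tab E8Data.cols 1 [] E8Data.tab1_0 :=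
  tab_nil (by decide +kernel)

theorem tab1_1_ok : TabOK Cfsg.Agent.Chevalley.Data.E8.tab E8Data.cols 1 [Cfsg.Agent.Chevalley.Data.WE8.lev1] E8Data.tab1_1 :=
  tab_step tab1_0_ok inv1_ok (by decide +kernel)

theorem tab1_2_ok : TabOK Cfsg.Agent.Chevalley.Data.E8.tab E8Data.cols 1 [Cfsg.Agent.Chevalley.Data.WE8.lev2, Cfsg.Agent.Chevalley.Data.WE8.lev1] E8Data.tab1_2 :=
  tab_step tab1_1_ok inv2_ok (by decide +kernel)

theorem tab1_3_ok : TabOK Cfsg.Agent.Chevalley.Data.E8.tab E8Data.cols 1 [Cfsg.Agent.Chevalley.Data.WE8.lev3, Cfsg.Agent.Chevalley.Data.WE8.lev2, Cfsg.Agent.Chevalley.Data.WE8.lev1] E8Data.tab1_3 :=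
  tab_step tab1_2_ok inv3_ok (by decide +kernel)

theorem tab1_4_ok : TabOK Cfsg.Agent.Chevalley.Data.E8.tab E8Data.cols 1 [Cfsg.Agent.Chevalley.Data.WE8.lev4, Cfsg.Agent.Chevalley.Data.WE8.lev3, Cfsg.Agent.Chevalley.Data.WE8.lev2, Cfsg.Agent.Chevalley.Data.WE8.lev1] E8Data.tab1_4 :=
  tab_step tab1_3_ok inv4_ok (by decide +kernel)

theorem tab1_5_ok : TabOK Cfsg.Agent.Chevalley.Data.E8.tab E8Data.cols 1 [Cfsg.Agent.Chevalley.Data.WE8.lev5, Cfsg.Agent.Chevalley.Data.WE8.lev4, Cfsg.Agent.Chevalley.Data.WE8.lev3, Cfsg.Agent.Chevalley.Data.WE8.lev2, Cfsg.Agent.Chevalley.Data.WE8.lev1] E8Data.tab1_5 :=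
  tab_step tab1_4_ok inv5_ok (by decide +kernel)

theorem tab1_6_ok : TabOK Cfsg.Agent.Chevalley.Data.E8.tab E8Data.cols 1 [Cfsg.Agent.Chevalley.Data.WE8.lev6, Cfsg.Agent.Chevalley.Data.WE8.lev5, Cfsg.Agent.Chevalley.Data.WE8.lev4, Cfsg.Agent.Chevalley.Data.WE8.lev3, Cfsg.Agent.Chevalley.Data.WE8.lev2, Cfsg.Agent.Chevalley.Data.WE8.lev1] E8Data.tab1_6 :=
  tab_step tab1_5_ok inv6_ok (by decide +kernel)

theorem tab1_7_ok : TabOK Cfsg.Agent.Chevalley.Data.E8.tab E8Data.cols 1 [Cfsg.Agent.Chevalley.Data.WE8.lev7, Cfsg.Agent.Chevalley.Data.WE8.lev6, Cfsg.Agent.Chevalley.Data.WE8.lev5, Cfsg.Agent.Chevalley.Data.WE8.lev4, Cfsg.Agent.Chevalley.Data.WE8.lev3, Cfsg.Agent.Chevalley.Data.WE8.lev2, Cfsg.Agent.Chevalley.Data.WE8.lev1] E8Data.tab1_7 :=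
  tab_step tab1_6_ok inv7_ok (by decide +kernel)

theorem data1 : ClassData chevE8 Cfsg.Agent.Chevalley.Data.E8.tab E8Data.cols Cfsg.Agent.Chevalley.Data.WE8.chain 1 6 56 [8, 2, 4, 6, 8, 10, 12, 14] where
  lt := by decide +kernel
  ne := by decide
  lift := by decide +kernel
  fixed := by decide +kernel
  len := rfl
  small := by decide +kernel
  value := top_step tab1_7_ok inv8_ok (by decide +kernel)

theorem tab2_0_ok : TabOK Cfsg.Agent.Chevalley.Data.E8.tab E8Data.cols 3 [] E8Data.tab2_0 :=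
  tab_nil (by decide +kernel)

theorem tab2_1_ok : TabOK Cfsg.Agent.Chevalley.Data.E8.tab E8Data.cols 3 [Cfsg.Agent.Chevalley.Data.WE8.lev1] E8Data.tab2_1 :=
  tab_step tab2_0_ok inv1_ok (by decide +kernel)

theorem tab2_2_ok : TabOK Cfsg.Agent.Chevalley.Data.E8.tab E8Data.cols 3 [Cfsg.Agent.Chevalley.Data.WE8.lev2, Cfsg.Agent.Chevalley.Data.WE8.lev1] E8Data.tab2_2 :=
  tab_step tab2_1_ok inv2_ok (by decide +kernel)

theorem tab2_3_ok : TabOK Cfsg.Agent.Chevalley.Data.E8.tab E8Data.cols 3 [Cfsg.Agent.Chevalley.Data.WE8.lev3, Cfsg.Agent.Chevalley.Data.WE8.lev2, Cfsg.Agent.Chevalley.Data.WE8.lev1] E8Data.tab2_3 :=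
  tab_step tab2_2_ok inv3_ok (by decide +kernel)

theorem tab2_4_ok : TabOK Cfsg.Agent.Chevalley.Data.E8.tab E8Data.cols 3 [Cfsg.Agent.Chevalley.Data.WE8.lev4, Cfsg.Agent.Chevalley.Data.WE8.lev3, Cfsg.Agent.Chevalley.Data.WE8.lev2, Cfsg.Agent.Chevalley.Data.WE8.lev1] E8Data.tab2_4 :=
  tab_step tab2_3_ok inv4_ok (by decide +kernel)

theorem tab2_5_ok : TabOK Cfsg.Agent.Chevalley.Data.E8.tab E8Data.cols 3 [Cfsg.Agent.Chevalley.Data.WE8.lev5, Cfsg.Agent.Chevalley.Data.WE8.lev4, Cfsg.Agent.Chevalley.Data.WE8.lev3, Cfsg.Agent.Chevalley.Data.WE8.lev2, Cfsg.Agent.Chevalley.Data.WE8.lev1] E8Data.tab2_5 :=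
  tab_step tab2_4_ok inv5_ok (by decide +kernel)

theorem tab2_6_ok : TabOK Cfsg.Agent.Chevalley.Data.E8.tab E8Data.cols 3 [Cfsg.Agent.Chevalley.Data.WE8.lev6, Cfsg.Agent.Chevalley.Data.WE8.lev5, Cfsg.Agent.Chevalley.Data.WE8.lev4, Cfsg.Agent.Chevalley.Data.WE8.lev3, Cfsg.Agent.Chevalley.Data.WE8.lev2, Cfsg.Agent.Chevalley.Data.WE8.lev1] E8Data.tab2_6 :=
  tab_step tab2_5_ok inv6_ok (by decide +kernel)

theorem tab2_7_ok : TabOK Cfsg.Agent.Chevalley.Data.E8.tab E8Data.cols 3 [Cfsg.Agent.Chevalley.Data.WE8.lev7, Cfsg.Agent.Chevalley.Data.WE8.lev6, Cfsg.Agent.Chevalley.Data.WE8.lev5, Cfsg.Agent.Chevalley.Data.WE8.lev4, Cfsg.Agent.Chevalley.Data.WE8.lev3, Cfsg.Agent.Chevalley.Data.WE8.lev2, Cfsg.Agent.Chevalley.Data.WE8.lev1] E8Data.tab2_7 :=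
  tab_step tab2_6_ok inv7_ok (by decide +kernel)

theorem data2 : ClassData chevE8 Cfsg.Agent.Chevalley.Data.E8.tab E8Data.cols Cfsg.Agent.Chevalley.Data.WE8.chain 3 175 64 [2, 2, 6, 8, 10, 12, 14, 18] where
  lt := by decide +kernel
  ne := by decide
  lift := by decide +kernel
  fixed := by decide +kernel
  len := rfl
  small := by decide +kernel
  value := top_step tab2_7_ok inv8_ok (by decide +kernel)

theorem classes {F : Type*} [Field F] [Fintype F] (hF : Odd (Fintype.card F)) :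
    ∃ s t : ↥(chevE8.group F), orderOf s = 2 ∧ orderOf t = 2 ∧ ¬ IsConj s t ∧
      (∀ u : ↥(chevE8.group F), orderOf u = 2 → IsConj u s ∨ IsConj u t) ∧
      Nat.card (Subgroup.centralizer ({s} : Set ↥(chevE8.group F))) =
        Fintype.card F ^ 56 * (([8, 2, 4, 6, 8, 10, 12, 14] : List ℕ).map fun d => Fintype.card F ^ d - 1).prod ∧
      Nat.card (Subgroup.centralizer ({t} : Set ↥(chevE8.group F))) =
        Fintype.card F ^ 64 * (([2, 2, 6, 8, 10, 12, 14, 18] : List ℕ).map fun d => Fintype.card F ^ d - 1).prod := by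
  have hH : Nat.card (chevE8.diagonalSubgroup F) = (Fintype.card F - 1) ^ chevE8.rank := by
    have h := Types.OrderE8.card_H F
    simp [Types.OrderE8.ed, Fin.prod_univ_succ] at h
    exact h
  obtain ⟨s, t, hs, ht, hne, hall, h1, h2⟩ := involution_classes Types.E8.certified cartan_ok cols_ok
    Types.WE8.chain_ok Types.WE8.top_ok (by decide +kernel) hH data1 data2 class_ok (by norm_num)
    (by decide) hF
  exact ⟨s, t, hs, ht, hne, hall, h1, h2⟩

end Cfsg.Agent.GroupStructure3.OddInvol.E8
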