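import Cfsg.Agent.GroupStructure3.OddInvol.Parity

/-!
The length polynomial of the stabiliser of a mask in the Weyl group, by a recursion along a chain of
parabolic subgroups, with tables of its values at a large number.
-/

set_option autoImplicit false

open scoped Matrix

namespace Cfsg.Agent.GroupStructure3.OddInvol

open Cfsg.Lie Cfsg.Agent.Chevalley Cfsg.Agent.Chevalley.Eval Cfsg.Agent.Chevalley.Table
  Cfsg.Agent.Chevalley.Check Cfsg.Agent.Chevalley.Cert Cfsg.Agent.Chevalley.Group
  Cfsg.Agent.Chevalley.Unip Cfsg.Agent.Chevalley.Borel Cfsg.Agent.Chevalley.Weyl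
  Cfsg.Agent.Chevalley.WeylEnum

/-! ### Computation -/

/-- The positive roots a representative makes negative. -/
noncomputable def invLK (T : Tab) (d : Rep) : List ℕ :=
  (List.range T.n).filter fun r => iblt 0 (T.phi r) && iblt (T.phi (d.act r)) 0

/-- A mask pulled back along a representative. -/
noncomputable def pullRep (T : Tab) (cols : List ℕ) (d : Rep) (ε : ℕ) : ℕ :=
  pullN T.l cols (fun i => d.act (T.simple i)) ε

/-- The number of roots of a list that are even for a mask. -/
noncomputable def cnt (cols : List ℕ) (δ : ℕ) (l : List ℕ) : ℕ :=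
  List.rec 0 (fun s _ ih => Nat.add ih (Nat.sub 1 (bitN (OD cols δ) s))) l

/-- The recursion. -/
noncomputable def SP {R : Type*} [CommSemiring R] (T : Tab) (cols : List ℕ) (ε₀ : ℕ) (x : R) :
    List Lev → ℕ → R
  | [], ε => if ε = ε₀ then 1 else 0
  | L :: rest, ε => (L.reps.map fun d =>
      x ^ cnt cols (pullRep T cols d ε) (invLK T d) * SP T cols ε₀ x rest (pullRep T cols d ε)).sum

/-- An entry of a table. -/
noncomputable def getT (C : List (List ℕ)) (ε : ℕ) : ℕ :=
  nth (nth C [] (Nat.div ε 16)) 0 (Nat.mod ε 16)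

/-- Equality of lists of numbers. -/
def eqL : List ℕ → List ℕ → Bool
  | [], [] => true
  | a :: l, b :: m => Nat.beq a b && eqL l m
  | _, _ => false

/-- The supplied inversion lists are correct. -/
noncomputable def invsChk (T : Tab) (reps : List Rep) : List (List ℕ) → Bool :=
  List.rec (fun _ => true) (fun d _ ih invs => eqL (invLK T d) (invs.headD []) && ih invs.tail) reps

/-- The right hand side of the recursion at `2 ^ 30`. -/
noncomputable def rhs (T : Tab) (cols : List ℕ) (tab : List (List ℕ)) (ε : ℕ) (reps : List Rep) :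
    List (List ℕ) → ℕ :=
  List.rec (fun _ => 0) (fun d _ ih invs => Nat.add
    (Nat.shiftLeft (getT tab (pullRep T cols d ε))
      (Nat.mul 30 (cnt cols (pullRep T cols d ε) (invs.headD [])))) (ih invs.tail)) reps

/-- One step of the tables. -/
noncomputable def stepChk (T : Tab) (cols : List ℕ) (L : Lev) (invs tab tab' : List (List ℕ)) :
    Bool :=
  allR (2 ^ T.l) fun ε => Nat.beq (getT tab' ε) (rhs T cols tab ε L.reps invs)

/-! ### Soundness -/

theorem eqL_eq : ∀ {l m : List ℕ}, eqL l m = true → l = m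
  | [], [], _ => rfl
  | a :: l, b :: m, h => by
    simp only [eqL, Bool.and_eq_true] at h
    rw [Nat.eq_of_beq_eq_true h.1, eqL_eq h.2]
  | [], _ :: _, h => by simp [eqL] at h
  | _ :: _, [], h => by simp [eqL] at h

theorem rhs_eq (T : Tab) (cols : List ℕ) (tab : List (List ℕ)) (ε : ℕ) (f : ℕ → ℕ) :
    ∀ (reps : List Rep) (invs : List (List ℕ)), invsChk T reps invs = true →
      (∀ d ∈ reps, getT tab (pullRep T cols d ε) = f (pullRep T cols d ε)) →
      rhs T cols tab ε reps invs = (reps.map fun d =>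
        (2 ^ 30) ^ cnt cols (pullRep T cols d ε) (invLK T d) * f (pullRep T cols d ε)).sum := by
  intro reps
  induction reps with
  | nil => intro invs _ _; rfl
  | cons d reps ih =>
    intro invs h hf
    change (eqL (invLK T d) (invs.headD []) && invsChk T reps invs.tail) = true at h
    rw [Bool.and_eq_true] at h
    show Nat.add (Nat.shiftLeft _ _) (rhs T cols tab ε reps invs.tail) = _
    rw [List.map_cons, List.sum_cons, ih _ h.2 (fun e he => hf e (List.mem_cons_of_mem d he)),
      hf d List.mem_cons_self, ← eqL_eq h.1]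
    show _ <<< (30 * _) + _ = _
    rw [Nat.shiftLeft_eq, pow_mul, Nat.mul_comm]

/-- A table holds the values at `2 ^ 30`. -/
def TabOK (T : Tab) (cols : List ℕ) (ε₀ : ℕ) (Ls : List Lev) (tab : List (List ℕ)) : Prop :=
  ∀ ε < 2 ^ T.l, getT tab ε = SP T cols ε₀ (2 ^ 30 : ℕ) Ls ε

theorem pullRep_lt (T : Tab) (cols : List ℕ) (d : Rep) (ε : ℕ) :
    pullRep T cols d ε < 2 ^ T.l := (pullN_spec _ _ _ _).1

theorem tab_step {T : Tab} {cols : List ℕ} {ε₀ : ℕ} {Ls : List Lev} {L : Lev}
    {invs tab tab' : List (List ℕ)} (h : TabOK T cols ε₀ Ls tab)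
    (h1 : invsChk T L.reps invs = true) (h2 : stepChk T cols L invs tab tab' = true) :
    TabOK T cols ε₀ (L :: Ls) tab' := by
  intro ε hε
  rw [Nat.eq_of_beq_eq_true (of_allR h2 ε hε), rhs_eq T cols tab ε _ L.reps invs h1
    (fun d _ => h _ (pullRep_lt T cols d ε))]
  rfl

theorem top_step {T : Tab} {cols : List ℕ} {ε₀ : ℕ} {Ls : List Lev} {L : Lev}
    {invs tab : List (List ℕ)} {v : ℕ} (h : TabOK T cols ε₀ Ls tab)
    (h1 : invsChk T L.reps invs = true) (h2 : Nat.beq (rhs T cols tab ε₀ L.reps invs) v = true) :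
    SP T cols ε₀ (2 ^ 30 : ℕ) (L :: Ls) ε₀ = v := by
  rw [← Nat.eq_of_beq_eq_true h2, rhs_eq T cols tab ε₀ _ L.reps invs h1
    (fun d _ => h _ (pullRep_lt T cols d ε₀))]
  rfl

theorem tab_nil {T : Tab} {cols : List ℕ} {ε₀ : ℕ} {tab : List (List ℕ)}
    (h : allR (2 ^ T.l) (fun ε => Nat.beq (getT tab ε) (bif Nat.beq ε ε₀ then 1 else 0)) = true) :
    TabOK T cols ε₀ [] tab := by
  intro ε hε
  rw [Nat.eq_of_beq_eq_true (of_allR h ε hε)]
  show _ = if ε = ε₀ then 1 else 0
  by_cases e : ε = ε₀
  · subst e; simp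
  · rw [Bool.eq_false_iff.2 (fun hb => e (Nat.eq_of_beq_eq_true hb)), cond_false, if_neg e]

theorem SP_map {R S : Type*} [CommSemiring R] [CommSemiring S] (f : R →+* S) (T : Tab)
    (cols : List ℕ) (ε₀ : ℕ) (x : R) :
    ∀ (Ls : List Lev) (ε : ℕ), f (SP T cols ε₀ x Ls ε) = SP T cols ε₀ (f x) Ls ε := by
  intro Ls
  induction Ls with
  | nil => intro ε; rw [SP, SP]; split <;> simp
  | cons L rest ih =>
    intro ε
    rw [SP, SP, map_list_sum, List.map_map]
    congr 1
    refine List.map_congr_left fun d _ => ?_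
    simp only [Function.comp_apply, map_mul, map_pow, ih]

theorem SP_one_le (T : Tab) (cols : List ℕ) (ε₀ : ℕ) : ∀ (Ls : List Lev) (ε : ℕ),
    SP T cols ε₀ (1 : ℕ) Ls ε ≤ (Ls.map fun L => L.reps.length).prod := by
  intro Ls
  induction Ls with
  | nil => intro ε; rw [SP]; split <;> simp
  | cons L rest ih =>
    intro ε
    rw [SP, List.map_cons, List.prod_cons]
    refine le_trans (List.sum_le_card_nsmul _ ((rest.map fun L => L.reps.length).prod) ?_) ?_
    · intro y hy
      obtain ⟨d, -, rfl⟩ := List.mem_map.1 hy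
      rw [one_pow, one_mul]
      exact ih _
    · simp

theorem poly_ext_of_big {B : ℕ} : ∀ {p q : Polynomial ℕ}, p.eval 1 < B → q.eval 1 < B →
    p.eval B = q.eval B → p = q := by
  suffices key : ∀ n, ∀ p q : Polynomial ℕ, p.natDegree ≤ n → q.natDegree ≤ n → p.eval 1 < B →
      q.eval 1 < B → p.eval B = q.eval B → p = q from fun {p q} =>
    key (max p.natDegree q.natDegree) p q (le_max_left _ _) (le_max_right _ _)
  intro n
  induction n with
  | zero =>
    intro p q hp hq _ _ h
    rw [Polynomial.eq_C_of_natDegree_le_zero hp, Polynomial.eq_C_of_natDegree_le_zero hq] at h ⊢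
    simp only [Polynomial.eval_C] at h
    rw [h]
  | succ n ih =>
    intro p q hp hq hp1 hq1 h
    have e : ∀ r : Polynomial ℕ, ∀ y : ℕ, r.eval y = y * r.divX.eval y + r.coeff 0 := fun r y => by
      conv_lhs => rw [← Polynomial.X_mul_divX_add r]
      simp
    have hp0 := e p 1
    have hq0 := e q 1
    rw [one_mul] at hp0 hq0
    rw [e p B, e q B] at h
    have h0 : p.coeff 0 = q.coeff 0 := by
      have h' := congrArg (· % B) h
      simp only [Nat.mul_add_mod] at h'
      rwa [Nat.mod_eq_of_lt (by omega), Nat.mod_eq_of_lt (by omega)] at h'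
    rw [h0] at h
    have h1 : p.divX = q.divX := ih _ _ (by rw [Polynomial.natDegree_divX_eq_natDegree_tsub_one]; omega)
      (by rw [Polynomial.natDegree_divX_eq_natDegree_tsub_one]; omega) (by omega) (by omega)
      (Nat.eq_of_mul_eq_mul_left (by omega) (Nat.add_right_cancel h))
    rw [← Polynomial.X_mul_divX_add p, ← Polynomial.X_mul_divX_add q, h1, h0]

/-- The recursion at any number, from its value at `2 ^ 30`. -/
theorem SP_eq_geom {T : Tab} {cols : List ℕ} {ε₀ : ℕ} {Ls : List Lev} {degs : List ℕ}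
    (hv : SP T cols ε₀ (2 ^ 30 : ℕ) Ls ε₀ =
      (degs.map fun d => ∑ k ∈ Finset.range d, (2 ^ 30) ^ k).prod)
    (h1 : (Ls.map fun L => L.reps.length).prod < 2 ^ 30) (h2 : degs.prod < 2 ^ 30) (q : ℕ) :
    SP T cols ε₀ q Ls ε₀ = (degs.map fun d => ∑ k ∈ Finset.range d, q ^ k).prod := by
  obtain ⟨P, hP⟩ : ∃ P : Polynomial ℕ, P = SP T cols ε₀ Polynomial.X Ls ε₀ := ⟨_, rfl⟩
  obtain ⟨Q, hQ⟩ : ∃ Q : Polynomial ℕ,
      Q = (degs.map fun d => ∑ k ∈ Finset.range d, Polynomial.X ^ k).prod := ⟨_, rfl⟩
  have eP : ∀ y, P.eval y = SP T cols ε₀ y Ls ε₀ := fun y => by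
    rw [hP, ← Polynomial.coe_evalRingHom, SP_map]; simp
  have eQ : ∀ y, Q.eval y = (degs.map fun d => ∑ k ∈ Finset.range d, y ^ k).prod := fun y => by
    rw [hQ, Polynomial.eval_list_prod, List.map_map]
    congr 1
    refine List.map_congr_left fun d _ => ?_
    simp [Polynomial.eval_finset_sum]
  have hPQ : P = Q := by
    refine poly_ext_of_big (B := 2 ^ 30) ?_ ?_ ?_
    · rw [eP]; exact (SP_one_le T cols ε₀ Ls ε₀).trans_lt h1
    · rw [eQ]; simpa using h2
    · rw [eP, eQ, hv]
  rw [← eP, ← eQ, hPQ]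

theorem cnt_eq_filter (cols : List ℕ) (δ : ℕ) : ∀ l : List ℕ,
    cnt cols δ l = (l.filter fun s => decide (par cols δ s = 0)).length := by
  intro l
  induction l with
  | nil => rfl
  | cons s l ih =>
    show cnt cols δ l + (1 - bitN (OD cols δ) s) = _
    rw [ih, List.filter_cons]
    rcases (show bitN (OD cols δ) s = 0 ∨ bitN (OD cols δ) s = 1 by
      have := Nat.mod_lt (Nat.shiftRight (OD cols δ) s) (show 2 > 0 by norm_num)
      simp only [bitN]
      show (Nat.shiftRight (OD cols δ) s % 2 = 0) ∨ (Nat.shiftRight (OD cols δ) s % 2 = 1)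
      omega) with h | h
    · rw [if_pos (by simp [par, bit2, h]), List.length_cons, h]
    · rw [if_neg (by simp [par, bit2, h]), h]
      omega

variable {D : ChevalleyDatum} {T : Tab} (hC : Certified D T)
include hC

variable {cols : List ℕ} (hcols : colsChk T cols = true) (ε₀ : ℕ)

/-- A word carries one mask to another. -/
def HasPull (D : ChevalleyDatum) (cols : List ℕ) (ε₀ ε : ℕ) (e : List ℕ) : Prop :=
  ∀ r < D.nroots, par cols ε (wL D e r) = par cols ε₀ r

/-- The roots inverted by a word that are even for a mask. -/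
noncomputable def invT (D : ChevalleyDatum) (T : Tab) (cols : List ℕ) (ε₀ : ℕ) (e : List ℕ) :
    Finset ℕ :=
  (invSet D T e).filter fun r => par cols ε₀ r = 0

section step

variable {L : Lev} {Jp : List ℕ} (hl : levChk T L Jp = true)
include hl

theorem invSet_append_eq {k : ℕ} (hk : k < L.reps.length) {d v : List ℕ}
    (hd : ∀ i ∈ d, i ∈ L.J) (hde : ∀ r < D.nroots, wL D d r = L.reps[k].act r)
    (hv : ∀ i ∈ v, i ∈ Jp) :
    invSet D T (d ++ v) = invSet D T v ∪ (invSet D T d).image (wL D v.reverse) ∧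
      Disjoint (invSet D T v) ((invSet D T d).image (wL D v.reverse)) := by
  have hdr : ∀ i ∈ d, i < D.rank := fun i hi => J_lt hC hl i (hd i hi)
  have hvr : ∀ i ∈ v, i < D.rank := fun i hi => J_lt hC hl i (Jp_sub hC hl i (hv i hi))
  have hvrr : ∀ i ∈ v.reverse, i < D.rank := fun i hi => hvr i (List.mem_reverse.1 hi)
  have hvJ : ∀ i ∈ v.reverse, i ∈ Jp := fun i hi => hv i (List.mem_reverse.1 hi)
  have hback : ∀ {r}, r < D.nroots → wL D v (wL D v.reverse r) = r := fun {r} hr => by
    simpa using wL_reverse hC hvrr hr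
  have hdM : ∀ {r}, r ∈ invSet D T d → ¬ InM D L r := by
    intro r hr hM
    simp only [invSet, Finset.mem_filter] at hr
    have := act_pos hC hl hk hde hM hr.2.1
    omega
  have hneg : ∀ {r}, InM D L r → T.phi r < 0 → T.phi (wL D d r) < 0 := by
    intro r hM hn
    have := act_pos hC hl hk hde (inM_neg hC hl hM) (by rw [hC.phi_neg hM.1]; omega)
    rw [wL_neg hC hdr hM.1, hC.phi_neg (wL_lt hC hdr hM.1)] at this
    omega
  refine ⟨?_, ?_⟩
  · ext r
    simp only [Finset.mem_union, Finset.mem_image]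
    constructor
    · intro h
      simp only [invSet, Finset.mem_filter, Finset.mem_range, wL_append] at h ⊢
      obtain ⟨hr, hp, hn⟩ := h
      by_cases hM : InM D L r
      · have hMv := (wL_inM hC hl hv hr).1 hM
        have := hC.phi_ne_zero hMv.1
        refine Or.inl ⟨hr, hp, ?_⟩
        by_contra hcon
        have := act_pos hC hl hk hde hMv (by omega)
        omega
      · exact Or.inr ⟨wL D v r, ⟨wL_lt hC hvr hr, ((wL_inM hC hl hv hr).2 hM).2 hp, hn⟩,
          wL_reverse hC hvr hr⟩
    · intro h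
      simp only [invSet, Finset.mem_filter, Finset.mem_range, wL_append]
      rcases h with h | ⟨s, hs, rfl⟩
      · simp only [invSet, Finset.mem_filter, Finset.mem_range] at h
        obtain ⟨hr, hp, hn⟩ := h
        have hM : InM D L r := by
          by_contra hM
          have := ((wL_inM hC hl hv hr).2 hM).2 hp
          omega
        exact ⟨hr, hp, hneg ((wL_inM hC hl hv hr).1 hM) hn⟩
      · have hs2 := hdM hs
        simp only [invSet, Finset.mem_filter, Finset.mem_range] at hs
        refine ⟨wL_lt hC hvrr hs.1, ((wL_inM hC hl hvJ hs.1).2 hs2).2 hs.2.1, ?_⟩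
        rw [hback hs.1]
        exact hs.2.2
  · rw [Finset.disjoint_left]
    intro r hr hr'
    obtain ⟨s, hs, rfl⟩ := Finset.mem_image.1 hr'
    simp only [invSet, Finset.mem_filter, Finset.mem_range] at hr
    have hs2 := hdM hs
    simp only [invSet, Finset.mem_filter, Finset.mem_range] at hs
    rw [hback hs.1] at hr
    omega

include hcols

theorem pullRep_spec {k : ℕ} (hk : k < L.reps.length) {d : List ℕ} (hd : ∀ i ∈ d, i ∈ L.J)
    (hde : ∀ r < D.nroots, wL D d r = L.reps[k].act r) (ε : ℕ) :
    ∀ r < D.nroots, par cols (pullRep T cols L.reps[k] ε) r = par cols ε (wL D d r) := by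
  refine AddMod.ext hC (par_addMod hC hcols _)
    (AddMod.comp_wL hC (fun i hi => J_lt hC hl i (hd i hi)) (par_addMod hC hcols ε)) fun i hi => ?_
  rw [par_simple hC hcols _ hi, pullRep, (pullN_spec _ _ _ _).2 i (by rw [hC.l_eq]; exact hi),
    hC.simple_eq hi, ← hde _ (hC.simple_lt hi)]

theorem invT_append {k : ℕ} (hk : k < L.reps.length) {d v : List ℕ}
    (hd : ∀ i ∈ d, i ∈ L.J) (hde : ∀ r < D.nroots, wL D d r = L.reps[k].act r)
    (hv : ∀ i ∈ v, i ∈ Jp) {δ : ℕ} (hp : HasPull D cols ε₀ δ v) :
    (invT D T cols ε₀ (d ++ v)).card =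
      cnt cols δ (invLK T L.reps[k]) + (invT D T cols ε₀ v).card := by
  classical
  have hvr : ∀ i ∈ v, i < D.rank := fun i hi => J_lt hC hl i (Jp_sub hC hl i (hv i hi))
  have hvrr : ∀ i ∈ v.reverse, i < D.rank := fun i hi => hvr i (List.mem_reverse.1 hi)
  obtain ⟨e, hdisj⟩ := invSet_append_eq hC hl hk hd hde hv
  rw [invT, e, Finset.filter_union, Finset.card_union_of_disjoint
    (hdisj.mono (Finset.filter_subset _ _) (Finset.filter_subset _ _)), add_comm, Finset.filter_image]
  refine congrArg₂ (· + ·) ?_ rfl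
  rw [Finset.card_image_of_injOn, cnt_eq_filter, invLK,
    ← List.toFinset_card_of_nodup ((List.nodup_range.filter _).filter _)]
  · congr 1
    ext s
    simp only [invSet, Finset.mem_filter, Finset.mem_range, List.mem_toFinset,
      List.mem_filter, List.mem_range, Bool.and_eq_true, iblt_iff, decide_eq_true_eq, hC.n_eq]
    constructor
    · rintro ⟨⟨hs, h1, h2⟩, h3⟩
      refine ⟨⟨hs, h1, by rw [← hde s hs]; exact h2⟩, ?_⟩
      have := hp _ (wL_lt hC hvrr hs)
      rwa [show wL D v (wL D v.reverse s) = s by simpa using wL_reverse hC hvrr hs, h3] at this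
    · rintro ⟨⟨hs, h1, h2⟩, h3⟩
      refine ⟨⟨hs, h1, by rw [hde s hs]; exact h2⟩, ?_⟩
      have := hp _ (wL_lt hC hvrr hs)
      rw [show wL D v (wL D v.reverse s) = s by simpa using wL_reverse hC hvrr hs] at this
      rw [← this, h3]
  · intro a ha b hb h
    simp only [invSet, Finset.coe_filter, Finset.mem_range, Set.mem_setOf_eq, Finset.mem_filter] at ha hb
    exact wL_injective hC hvrr ha.1.1 hb.1.1 h

end step

include hcols

open Classical in
/-- A checked chain enumerates the words; the recursion is the generating function of a stabiliser. -/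
theorem exists_enum_stab {S : Type*} [CommSemiring S] (x : S) (hε₀ : ε₀ < 2 ^ D.rank) :
    ∀ Ls : List Lev, chainLevChk T Ls = true →
      ∃ E : List (List ℕ), (∀ e ∈ E, ∀ i ∈ e, i ∈ lettersOf Ls) ∧
        (∀ w : List ℕ, (∀ i ∈ w, i ∈ lettersOf Ls) → ∃ e ∈ E, Eqv D w e) ∧
        E.Pairwise (fun e e' => ¬ Eqv D e e') ∧
        ∀ ε < 2 ^ D.rank, (E.map fun e => if HasPull D cols ε₀ ε e
          then x ^ (invT D T cols ε₀ e).card else 0).sum = SP T cols ε₀ x Ls ε := by
  intro Ls
  induction Ls with
  | nil =>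
    intro _
    refine ⟨[[]], fun e he i hi => ?_, fun w hw => ⟨[], List.mem_singleton_self _, ?_⟩,
      List.pairwise_singleton _ _, fun ε hε => ?_⟩
    · rw [List.mem_singleton] at he
      subst he
      exact absurd hi List.not_mem_nil
    · cases w with
      | nil => exact fun r _ => rfl
      | cons a w => exact absurd (hw a List.mem_cons_self) List.not_mem_nil
    · have : invT D T cols ε₀ [] = ∅ := by
        rw [invT, invSet, Finset.filter_filter, Finset.filter_eq_empty_iff]
        intro r _ h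
        simp only [wL, List.foldr_nil] at h
        omega
      rw [List.map_singleton, List.sum_singleton, this, Finset.card_empty, pow_zero, SP]
      refine if_congr ⟨fun h => ?_, fun h r _ => by subst h; rfl⟩ rfl rfl
      refine eq_of_bit2 hε hε₀ fun i hi => ?_
      rw [← par_simple hC hcols ε hi, ← par_simple hC hcols ε₀ hi]
      exact h _ (hC.simple_lt hi)
  | cons L rest ih =>
    intro hchk
    simp only [chainLevChk, Bool.and_eq_true] at hchk
    obtain ⟨hl, hrest⟩ := hchk
    obtain ⟨E, hE1, hE2, hE3, hE4⟩ := ih hrest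
    choose wd hwd hwde using fun k : Fin L.reps.length => exists_word hC hl k.2
    refine ⟨(List.finRange L.reps.length).flatMap fun k => E.map fun e => wd k ++ e,
      fun e he i hi => ?_, ?_, ?_, fun ε hε => ?_⟩
    · simp only [List.mem_flatMap, List.mem_map] at he
      obtain ⟨k, -, e', he', rfl⟩ := he
      rcases List.mem_append.1 hi with hi | hi
      · exact hwd k i hi
      · exact Jp_sub hC hl i (hE1 e' he' i hi)
    · intro w
      induction w with
      | nil =>
        intro _
        have h0 : 0 < L.reps.length := by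
          simp only [levChk, Bool.and_eq_true, Nat.blt_eq, cnt_eq] at hl
          exact hl.2.1
        obtain ⟨e, he, hee⟩ := hE2 [] (by simp)
        refine ⟨wd ⟨0, h0⟩ ++ e, List.mem_flatMap.2 ⟨_, List.mem_finRange _,
          List.mem_map.2 ⟨e, he, rfl⟩⟩, fun r hr => ?_⟩
        have her : ∀ i ∈ e, i < D.rank := fun i hi => J_lt hC hl i (Jp_sub hC hl i (hE1 e he i hi))
        have h := repChk_of hC hl h0
        simp only [repChk, Bool.and_eq_true, Nat.beq_refl, cond_true] at h
        rw [wL_append, hwde ⟨0, h0⟩ _ (wL_lt hC her hr),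
          Nat.eq_of_beq_eq_true (of_allR h.1.1 _ (by rw [hC.n_eq]; exact wL_lt hC her hr))]
        exact hee r hr
      | cons i w ihw =>
        intro hw
        have hiJ : i ∈ L.J := hw i List.mem_cons_self
        obtain ⟨e0, he0, he0e⟩ := ihw fun j hj => hw j (List.mem_cons_of_mem i hj)
        simp only [List.mem_flatMap, List.mem_map] at he0
        obtain ⟨k, -, e, he, rfl⟩ := he0
        have her : ∀ i ∈ e, i < D.rank := fun i hi => J_lt hC hl i (Jp_sub hC hl i (hE1 e he i hi))
        have h1 : ∀ r < D.nroots, wL D (i :: w) r = wL D ((i :: wd k) ++ e) r := fun r hr => by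
          show D.reflectRoot i (wL D w r) = D.reflectRoot i (wL D (wd k ++ e) r)
          rw [he0e r hr]
        rcases next_step hC hl k.2 (hwd k) (hwde k) hiJ with ⟨k', hk', h⟩ | ⟨j, hj, h⟩
        · refine ⟨wd ⟨k', hk'⟩ ++ e, List.mem_flatMap.2 ⟨_, List.mem_finRange _,
            List.mem_map.2 ⟨e, he, rfl⟩⟩, fun r hr => (h1 r hr).trans ?_⟩
          exact eqv_append hC her (h _ (hwd _) (hwde ⟨k', hk'⟩)) (fun _ _ => rfl) r hr
        · obtain ⟨e', he', hee'⟩ := hE2 (j :: e) (by
            intro b hb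
            rcases List.mem_cons.1 hb with rfl | hb
            exacts [hj, hE1 e he b hb])
          refine ⟨wd k ++ e', List.mem_flatMap.2 ⟨_, List.mem_finRange _,
            List.mem_map.2 ⟨e', he', rfl⟩⟩, fun r hr => (h1 r hr).trans ?_⟩
          rw [wL_append, h _ (wL_lt hC her hr), ← wL_append, List.append_assoc, wL_append]
          rw [show wL D ([j] ++ e) r = wL D e' r from hee' r hr, ← wL_append]
    · rw [List.pairwise_flatMap]
      refine ⟨fun k _ => ?_, ?_⟩
      · rw [List.pairwise_map]
        refine hE3.imp_of_mem fun {a b} ha hb hab h => hab fun r hr => ?_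
        have har : ∀ i ∈ a, i < D.rank := fun i hi => J_lt hC hl i (Jp_sub hC hl i (hE1 a ha i hi))
        have hbr : ∀ i ∈ b, i < D.rank := fun i hi => J_lt hC hl i (Jp_sub hC hl i (hE1 b hb i hi))
        have h' := h r hr
        rw [wL_append, wL_append] at h'
        exact wL_injective hC (fun i hi => J_lt hC hl i (hwd k i hi)) (wL_lt hC har hr)
          (wL_lt hC hbr hr) h'
      · refine List.Nodup.pairwise_of_forall_ne (List.nodup_finRange _) fun k _ k' _ hne => ?_
        intro a ha b hb h
        simp only [List.mem_map] at ha hb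
        obtain ⟨e, he, rfl⟩ := ha
        obtain ⟨e', he', rfl⟩ := hb
        exact hne (Fin.ext (rep_inj hC hl k.2 k'.2 (hwd k) (hwd k') (hwde k) (hwde k')
          (hE1 e he) (hE1 e' he') h))
    · rw [List.map_flatMap, List.flatMap_def, List.sum_flatten, List.map_map, SP]
      conv_rhs => rw [← List.ofFn_getElem (xs := L.reps), List.ofFn_eq_map, List.map_map]
      congr 1
      refine List.map_congr_left fun k _ => ?_
      simp only [Function.comp_apply]
      have hδ := pullRep_spec hC hcols hl k.2 (hwd k) (hwde k) ε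
      rw [List.map_map, ← hE4 _ (hC.l_eq ▸ pullRep_lt T cols _ ε), ← List.sum_map_mul_left]
      congr 1
      refine List.map_congr_left fun e he => ?_
      simp only [Function.comp_apply]
      have her : ∀ i ∈ e, i < D.rank := fun i hi => J_lt hC hl i (Jp_sub hC hl i (hE1 e he i hi))
      have hiff : HasPull D cols ε₀ ε (wd k ++ e) ↔
          HasPull D cols ε₀ (pullRep T cols L.reps[k.1] ε) e := by
        refine forall₂_congr fun r hr => ?_
        rw [wL_append, hδ _ (wL_lt hC her hr)]
      by_cases hp : HasPull D cols ε₀ ε (wd k ++ e)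
      · rw [if_pos hp, if_pos (hiff.1 hp),
          invT_append hC hcols ε₀ hl k.2 (hwd k) (hwde k) (hE1 e he) (hiff.1 hp), pow_add]
      · rw [if_neg hp, if_neg (fun h => hp (hiff.2 h)), mul_zero]

end Cfsg.Agent.GroupStructure3.OddInvol
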