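import Cfsg.Agent.Lib.Chevalley.WeylEnum

/-! Certificate data for the involutions of type F4 in odd characteristic, validated by `F4`. -/

set_option autoImplicit false

namespace Cfsg.Agent.GroupStructure3.OddInvol.F4Data

/-- The columns. -/
def cols : List ℕ := [0x1fe00007f80, 0x111c381c3888, 0xc678f66f1e63, 0x7dd1a5a58bbe]

/-- Words to the class representatives. -/
def words : List (List ℕ) := [[], [], [0, 1], [0], [], [2, 1, 2], [2, 1, 0, 2, 1], [2, 1, 0, 2], [2, 1, 0, 2, 1, 2, 3], [2, 1, 0, 3], [2, 3], [2, 1, 3], [2, 1, 0, 2, 1, 2], [2, 1, 0], [2], [2, 1]]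

/-- Inversions at step 1. -/
def inv1 : List (List ℕ) := [[], [25]]

/-- Inversions at step 2. -/
def inv2 : List (List ℕ) := [[], [27], [27, 30], [27, 28, 30]]

/-- Inversions at step 3. -/
def inv3 : List (List ℕ) := [[], [24], [24, 26], [24, 26, 29], [24, 26, 29, 31], [24, 26, 29, 31, 32]]

/-- Inversions at step 4. -/
def inv4 : List (List ℕ) := [[], [33], [33, 34], [33, 34, 41], [33, 34, 35, 41], [33, 34, 41, 42], [33, 34, 35, 41, 42], [33, 34, 35, 37, 41], [33, 34, 35, 41, 42, 43], [33, 34, 35, 37, 41, 42], [33, 34, 35, 36, 41, 42, 43], [33, 34, 35, 37, 41, 42, 43], [33, 34, 35, 36, 41, 42, 43, 44], [33, 34, 35, 37, 41, 42, 43, 44], [33, 34, 35, 36, 37, 41, 42, 43, 44], [33, 34, 35, 37, 41, 42, 43, 44, 45], [33, 34, 35, 36, 37, 41, 42, 43, 44, 45], [33, 34, 35, 37, 41, 42, 43, 44, 45, 46], [33, 34, 35, 36, 37, 38, 41, 42, 43, 44, 45], [33, 34, 35, 36, 37, 41, 42, 43, 44, 45, 46], [33, 34, 35, 36, 37, 38, 41, 42, 43, 44, 45, 46], [33,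 34, 35, 36, 37, 38, 41, 42, 43, 44, 45, 46, 47], [33, 34, 35, 36, 37, 38, 39, 41, 42, 43, 44, 45, 46, 47], [33, 34, 35, 36, 37, 38, 39, 40, 41, 42, 43, 44, 45, 46, 47]]

/-- Table 0 of class 1. -/
def tab1_0 : List (List ℕ) := [[0, 1]]

/-- Table 1 of class 1. -/
def tab1_1 : List (List ℕ) := [[0, 1073741825]]

/-- Table 2 of class 1. -/
def tab1_2 : List (List ℕ) := [[0, 0x1000000080000002000000080000001]]

/-- Table 3 of class 1. -/
def tab1_3 : List (List ℕ) := [[0, 0x400000030000001400000070000002000000080000001c00000050000000c0000001]]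

/-- Table 0 of class 2. -/
def tab2_0 : List (List ℕ) := [[0, 0, 0, 0, 1]]

/-- Table 1 of class 2. -/
def tab2_1 : List (List ℕ) := [[0, 0, 0, 0, 1, 0, 0, 0, 0, 0, 0, 0, 0, 0, 1]]

/-- Table 2 of class 2. -/
def tab2_2 : List (List ℕ) := [[0, 0, 0, 0, 1073741825, 1073741825, 0, 0, 0, 0, 0, 0, 0, 0, 1073741825, 1073741825]]

/-- Table 3 of class 2. -/
def tab2_3 : List (List ℕ) := [[0, 0, 0, 0, 0x400000030000000c0000001, 0x400000030000000c0000001, 0, 0, 0, 0, 0x400000030000000c0000001, 0x400000030000000c0000001, 0, 0, 0x400000030000000c0000001, 0x400000030000000c0000001]]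

end Cfsg.Agent.GroupStructure3.OddInvol.F4Data
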