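import Cfsg.Agent.GroupStructure3.OddInvol.Main
import Cfsg.Agent.GroupStructure3.OddInvol.F4Data
import Cfsg.Agent.Lib.Chevalley.Types.OrderF4

/-! The involutions of type F4 in odd characteristic: the finite checks and the classes. -/

set_option autoImplicit false

namespace Cfsg.Agent.GroupStructure3.OddInvol.F4

open Cfsg.Lie Cfsg.Agent.Chevalley Cfsg.Agent.Chevalley.Table Cfsg.Agent.Chevalley.Check
  Cfsg.Agent.Chevalley.Cert Cfsg.Agent.Chevalley.WeylEnum

theorem cartan_ok : CartanOK chevF4 Cfsg.Agent.Chevalley.Data.F4.tab where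
  orth := by decide +kernel
  eta := by decide +kernel
  mod2 := by decide +kernel

theorem cols_ok : colsChk Cfsg.Agent.Chevalley.Data.F4.tab F4Data.cols = true := by decide +kernel

theorem class_ok : classChk Cfsg.Agent.Chevalley.Data.F4.tab F4Data.cols 1 4 F4Data.words = true := by decide +kernel

theorem class_ok' : classChk Cfsg.Agent.Chevalley.Data.F4.tab F4Data.cols 4 1 F4Data.words = true := by decide +kernel

theorem inv1_ok : invsChk Cfsg.Agent.Chevalley.Data.F4.tab Cfsg.Agent.Chevalley.Data.WF4.lev1.reps F4Data.inv1 = true := by decide +kernel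

theorem inv2_ok : invsChk Cfsg.Agent.Chevalley.Data.F4.tab Cfsg.Agent.Chevalley.Data.WF4.lev2.reps F4Data.inv2 = true := by decide +kernel

theorem inv3_ok : invsChk Cfsg.Agent.Chevalley.Data.F4.tab Cfsg.Agent.Chevalley.Data.WF4.lev3.reps F4Data.inv3 = true := by decide +kernel

theorem inv4_ok : invsChk Cfsg.Agent.Chevalley.Data.F4.tab Cfsg.Agent.Chevalley.Data.WF4.lev4.reps F4Data.inv4 = true := by decide +kernel

theorem tab1_0_ok : TabOK Cfsg.Agent.Chevalley.Data.F4.tab F4Data.cols 1 [] F4Data.tab1_0 :=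
  tab_nil (by decide +kernel)

theorem tab1_1_ok : TabOK Cfsg.Agent.Chevalley.Data.F4.tab F4Data.cols 1 [Cfsg.Agent.Chevalley.Data.WF4.lev1] F4Data.tab1_1 :=
  tab_step tab1_0_ok inv1_ok (by decide +kernel)

theorem tab1_2_ok : TabOK Cfsg.Agent.Chevalley.Data.F4.tab F4Data.cols 1 [Cfsg.Agent.Chevalley.Data.WF4.lev2, Cfsg.Agent.Chevalley.Data.WF4.lev1] F4Data.tab1_2 :=
  tab_step tab1_1_ok inv2_ok (by decide +kernel)

theorem tab1_3_ok : TabOK Cfsg.Agent.Chevalley.Data.F4.tab F4Data.cols 1 [Cfsg.Agent.Chevalley.Data.WF4.lev3, Cfsg.Agent.Chevalley.Data.WF4.lev2, Cfsg.Agent.Chevalley.Data.WF4.lev1] F4Data.tab1_3 :=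
  tab_step tab1_2_ok inv3_ok (by decide +kernel)

theorem data1 : ClassData chevF4 Cfsg.Agent.Chevalley.Data.F4.tab F4Data.cols Cfsg.Agent.Chevalley.Data.WF4.chain 1 2 16 [2, 4, 6, 8] where
  lt := by decide +kernel
  ne := by decide
  lift := by decide +kernel
  fixed := by decide +kernel
  len := rfl
  small := by decide +kernel
  value := top_step tab1_3_ok inv4_ok (by decide +kernel)

theorem tab2_0_ok : TabOK Cfsg.Agent.Chevalley.Data.F4.tab F4Data.cols 4 [] F4Data.tab2_0 :=
  tab_nil (by decide +kernel)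

theorem tab2_1_ok : TabOK Cfsg.Agent.Chevalley.Data.F4.tab F4Data.cols 4 [Cfsg.Agent.Chevalley.Data.WF4.lev1] F4Data.tab2_1 :=
  tab_step tab2_0_ok inv1_ok (by decide +kernel)

theorem tab2_2_ok : TabOK Cfsg.Agent.Chevalley.Data.F4.tab F4Data.cols 4 [Cfsg.Agent.Chevalley.Data.WF4.lev2, Cfsg.Agent.Chevalley.Data.WF4.lev1] F4Data.tab2_2 :=
  tab_step tab2_1_ok inv2_ok (by decide +kernel)

theorem tab2_3_ok : TabOK Cfsg.Agent.Chevalley.Data.F4.tab F4Data.cols 4 [Cfsg.Agent.Chevalley.Data.WF4.lev3, Cfsg.Agent.Chevalley.Data.WF4.lev2, Cfsg.Agent.Chevalley.Data.WF4.lev1] F4Data.tab2_3 :=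
  tab_step tab2_2_ok inv3_ok (by decide +kernel)

theorem data2 : ClassData chevF4 Cfsg.Agent.Chevalley.Data.F4.tab F4Data.cols Cfsg.Agent.Chevalley.Data.WF4.chain 4 8 10 [2, 2, 4, 6] where
  lt := by decide +kernel
  ne := by decide
  lift := by decide +kernel
  fixed := by decide +kernel
  len := rfl
  small := by decide +kernel
  value := top_step tab2_3_ok inv4_ok (by decide +kernel)

theorem classes {F : Type*} [Field F] [Fintype F] (hF : Odd (Fintype.card F)) :
    ∃ s t : ↥(chevF4.group F), orderOf s = 2 ∧ orderOf t = 2 ∧ ¬ IsConj s t ∧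
      (∀ u : ↥(chevF4.group F), orderOf u = 2 → IsConj u s ∨ IsConj u t) ∧
      Nat.card (Subgroup.centralizer ({s} : Set ↥(chevF4.group F))) =
        Fintype.card F ^ 16 * (([2, 4, 6, 8] : List ℕ).map fun d => Fintype.card F ^ d - 1).prod ∧
      Nat.card (Subgroup.centralizer ({t} : Set ↥(chevF4.group F))) =
        Fintype.card F ^ 10 * (([2, 2, 4, 6] : List ℕ).map fun d => Fintype.card F ^ d - 1).prod := by
  have hH : Nat.card (chevF4.diagonalSubgroup F) = (Fintype.card F - 1) ^ chevF4.rank := by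
    have h := Types.OrderF4.card_H F
    simp [Types.OrderF4.ed, Fin.prod_univ_succ] at h
    exact h
  obtain ⟨s, t, hs, ht, hne, hall, h1, h2⟩ := involution_classes Types.F4.certified cartan_ok cols_ok
    Types.WF4.chain_ok Types.WF4.top_ok (by decide +kernel) hH data2 data1 class_ok' (by norm_num)
    (by decide) hF
  exact ⟨t, s, ht, hs, fun h => hne h.symm, fun u hu => (hall u hu).symm, h2, h1⟩

end Cfsg.Agent.GroupStructure3.OddInvol.F4
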