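import Cfsg.Agent.GroupStructure3.OddInvol.Centralizer

/-!
Two classes of involutions and the orders of their centralizers, from the finite data of a type.
-/

set_option autoImplicit false

open scoped Matrix

namespace Cfsg.Agent.GroupStructure3.OddInvol

open Cfsg.Lie Cfsg.Agent.Chevalley Cfsg.Agent.Chevalley.Table Cfsg.Agent.Chevalley.Check
  Cfsg.Agent.Chevalley.Cert Cfsg.Agent.Chevalley.Eval Cfsg.Agent.Chevalley.Group
  Cfsg.Agent.Chevalley.WeylEnum

/-- The finite data of one class. -/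
structure ClassData (D : ChevalleyDatum) (T : Tab) (cols : List ℕ) (Ls : List Lev)
    (ε κ N : ℕ) (degs : List ℕ) : Prop where
  lt : ε < 2 ^ D.rank
  ne : ε ≠ 0
  lift : ∀ k : Fin D.rank, bit2 ε k =
    ∑ i : Fin D.rank, (D.cartan i (D.simple k) : ZMod 2) * bit2 κ i
  fixed : (D.posRoots.filter fun r => decide (par cols ε r = 0)).length = N
  len : degs.length = D.rank
  small : degs.prod < 2 ^ 30
  value : SP T cols ε (2 ^ 30 : ℕ) Ls ε =
    (degs.map fun d => ∑ k ∈ Finset.range d, (2 ^ 30) ^ k).prod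

theorem geom_prod {q : ℕ} (hq : 1 ≤ q) : ∀ degs : List ℕ,
    (q - 1) ^ degs.length * (degs.map fun d => ∑ k ∈ Finset.range d, q ^ k).prod =
      (degs.map fun d => q ^ d - 1).prod := by
  intro degs
  induction degs with
  | nil => simp
  | cons d degs ih =>
    obtain ⟨x, rfl⟩ : ∃ x, q = x + 1 := ⟨q - 1, by omega⟩
    have h := geom_sum_mul_add x d
    rw [List.map_cons, List.prod_cons, List.map_cons, List.prod_cons, List.length_cons, ← ih,
      pow_succ]
    simp only [Nat.add_sub_cancel]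
    rw [show (x + 1) ^ d - 1 = (∑ i ∈ Finset.range d, (x + 1) ^ i) * x by omega]
    ring

theorem card_centralizer_eq_of_isConj {G : Type*} [Group G] {s t : G} (h : IsConj s t) :
    Nat.card (Subgroup.centralizer ({s} : Set G)) = Nat.card (Subgroup.centralizer ({t} : Set G)) := by
  obtain ⟨g, rfl⟩ := isConj_iff.1 h
  refine Nat.card_congr ((MulAut.conj g).toEquiv.subtypeEquiv fun x => ?_)
  simp only [Subgroup.mem_centralizer_singleton_iff, MulEquiv.toEquiv_eq_coe, EquivLike.coe_coe,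
    MulAut.conj_apply]
  constructor
  · intro h
    calc g * x * g⁻¹ * (g * s * g⁻¹) = g * (x * s) * g⁻¹ := by group
      _ = _ := by rw [h]; group
  · intro h
    calc x * s = g⁻¹ * (g * x * g⁻¹ * (g * s * g⁻¹)) * g := by group
      _ = _ := by rw [h]; group

theorem qpow_ne {q a b : ℕ} (hq : 2 ≤ q) (hab : a < b) {l : List ℕ} (hl : ∀ d ∈ l, d ≠ 0)
    (y : ℕ) : q ^ a * (l.map fun d => q ^ d - 1).prod ≠ q ^ b * y := by
  intro h
  obtain ⟨c, rfl⟩ : ∃ c, b = a + (c + 1) := ⟨b - a - 1, by omega⟩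
  rw [pow_add, mul_assoc] at h
  have h1 := Nat.eq_of_mul_eq_mul_left (pow_pos (by omega) a) h
  have hcop : ∀ m ∈ l.map (fun d => q ^ d - 1), Nat.Coprime q m := by
    intro m hm
    obtain ⟨d, hd, rfl⟩ := List.mem_map.1 hm
    obtain ⟨e, rfl⟩ : ∃ e, d = e + 1 := ⟨d - 1, by have := hl d hd; omega⟩
    refine Nat.Coprime.coprime_dvd_left (dvd_pow_self q (Nat.succ_ne_zero e)) ?_
    exact ((Nat.coprime_self_sub_right (Nat.one_le_pow _ _ (by omega))).2 (Nat.coprime_one_right _))
  have hdvd : q ∣ (l.map fun d => q ^ d - 1).prod := by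
    rw [h1, pow_succ', mul_assoc]; exact dvd_mul_right _ _
  have := Nat.Coprime.eq_one_of_dvd (Nat.coprime_list_prod_right_iff.2 hcop) hdvd
  omega

variable {D : ChevalleyDatum} {F : Type*} [Field F] [Fintype F] {T : Tab}

theorem involution_classes (hC : Certified D T) (hK : CartanOK D T) {cols : List ℕ}
    (hcols : colsChk T cols = true) {Ls : List Lev} (hLs : chainLevChk T Ls = true)
    (htop : topChk T Ls = true) (hW : (Ls.map fun L => L.reps.length).prod < 2 ^ 30)
    (hH : Nat.card (D.diagonalSubgroup F) = (Fintype.card F - 1) ^ D.rank)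
    {e₁ κ₁ N₁ e₂ κ₂ N₂ : ℕ} {degs₁ degs₂ : List ℕ}
    (h₁ : ClassData D T cols Ls e₁ κ₁ N₁ degs₁) (h₂ : ClassData D T cols Ls e₂ κ₂ N₂ degs₂)
    {words : List (List ℕ)} (hcl : classChk T cols e₁ e₂ words = true)
    (hN : N₁ < N₂) (hd : ∀ d ∈ degs₁, d ≠ 0) (hF : Odd (Fintype.card F)) :
    ∃ s t : D.group F, orderOf s = 2 ∧ orderOf t = 2 ∧ ¬ IsConj s t ∧
      (∀ u : D.group F, orderOf u = 2 → IsConj u s ∨ IsConj u t) ∧
      Nat.card (Subgroup.centralizer ({s} : Set (D.group F))) =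
        Fintype.card F ^ N₁ * (degs₁.map fun d => Fintype.card F ^ d - 1).prod ∧
      Nat.card (Subgroup.centralizer ({t} : Set (D.group F))) =
        Fintype.card F ^ N₂ * (degs₂.map fun d => Fintype.card F ^ d - 1).prod := by
  have h2 := two_ne F hF
  haveI : Fact (Nat.Prime 2) := ⟨Nat.prime_two⟩
  obtain ⟨c₁, hc₁⟩ := exists_of_mask (F := F) hC hcols h₁.lift
  obtain ⟨c₂, hc₂⟩ := exists_of_mask (F := F) hC hcols h₂.lift
  have hmem : ∀ c : ℕ → Fˣ, tor D c ∈ D.group F := fun c =>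
    Borel.H_le_group hC (tor_mem_H hC c)
  have hord : ∀ {c : ℕ → Fˣ} {e κ N : ℕ} {degs : List ℕ}, ClassData D T cols Ls e κ N degs →
      HasMask D cols c e → orderOf (⟨tor D c, hmem c⟩ : D.group F) = 2 := fun {c e κ N degs} h hc =>
    orderOf_eq_prime (Subtype.ext (by rw [sq]; exact tor_mask_sq hC hcols hc))
      fun he => tor_ne_one hC hcols h2 h.lt h.ne hc (congrArg Subtype.val he)
  have hcard : ∀ {c : ℕ → Fˣ} {e κ N : ℕ} {degs : List ℕ}, ClassData D T cols Ls e κ N degs →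
      HasMask D cols c e →
      Nat.card (Subgroup.centralizer ({(⟨tor D c, hmem c⟩ : D.group F)} : Set (D.group F))) =
        Fintype.card F ^ N * (degs.map fun d => Fintype.card F ^ d - 1).prod := by
    intro c e κ N degs h hc
    rw [card_centralizer hC hcols h2 hLs htop h.lt hc rfl, h.fixed, hH,
      SP_eq_geom h.value hW h.small, mul_assoc, ← geom_prod Fintype.card_pos, h.len]
  refine ⟨⟨tor D c₁, hmem c₁⟩, ⟨tor D c₂, hmem c₂⟩, hord h₁ hc₁, hord h₂ hc₂, fun h => ?_,
    fun u hu => ?_, hcard h₁ hc₁, hcard h₂ hc₂⟩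
  · have := card_centralizer_eq_of_isConj h
    rw [hcard h₁ hc₁, hcard h₂ hc₂] at this
    exact qpow_ne Fintype.one_lt_card hN hd _ this
  · have hu2 : (u : GL D.Idx F) * u = 1 := by
      have := pow_orderOf_eq_one u
      rw [hu, sq] at this
      exact congrArg Subtype.val this
    obtain ⟨h, hh, hc, hh2⟩ := exists_torus hC hK hF u.2 hu2
    obtain ⟨c, rfl⟩ := (mem_H_iff hC).1 hh
    obtain ⟨ε, hε, hm⟩ := exists_mask hC hcols hh2
    have hne : ε ≠ 0 := by
      rintro rfl
      rw [mask_zero_eq_one hC hcols hm] at hc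
      obtain ⟨g, -, e⟩ := hc
      rw [conj_eq_one_iff] at e
      rw [show u = 1 from Subtype.ext e, orderOf_one] at hu
      omega
    obtain ⟨c', hc', h'⟩ := cj_class hC hcols hcl hε hne hm
    obtain ⟨g, hg, e⟩ := hc.trans hc'
    rcases h' with h' | h'
    · refine Or.inl (isConj_iff.2 ⟨⟨g, hg⟩, Subtype.ext ?_⟩)
      rw [tor_eq_of_mask hC hcols h' hc₁] at e
      exact e
    · refine Or.inr (isConj_iff.2 ⟨⟨g, hg⟩, Subtype.ext ?_⟩)
      rw [tor_eq_of_mask hC hcols h' hc₂] at e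
      exact e

end Cfsg.Agent.GroupStructure3.OddInvol
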