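import Cfsg.Agent.GroupStructure3.OddInvol.Basic

/-!
Involutions of the torus by parity masks, with the action of the fundamental reflections.
-/

set_option autoImplicit false

open scoped MatrixGroups Matrix

namespace Cfsg.Agent.GroupStructure3.OddInvol

open Cfsg.Lie Cfsg.Agent.Chevalley Cfsg.Agent.Chevalley.Table Cfsg.Agent.Chevalley.Check
  Cfsg.Agent.Chevalley.Cert Cfsg.Agent.Chevalley.Eval
  Cfsg.Agent.Chevalley.Group Cfsg.Agent.Chevalley.Borel Cfsg.Agent.Chevalley.Weyl

/-! ### Bits -/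

/-- A bit of a number. -/
def bitN (m i : ℕ) : ℕ := Nat.mod (Nat.shiftRight m i) 2

/-- A bit as a residue. -/
def bit2 (m i : ℕ) : ZMod 2 := (bitN m i : ℕ)

theorem bit2_eq (m i : ℕ) : bit2 m i = if m.testBit i then 1 else 0 := by
  have h : bitN m i = if m.testBit i then 1 else 0 := by
    show (m >>> i) % 2 = _
    rw [Nat.shiftRight_eq_div_pow, Nat.testBit_eq_decide_div_mod_eq]
    by_cases h : m / 2 ^ i % 2 = 1 <;> simp [h]
    omega
  rw [bit2, h]
  split <;> simp

theorem bit2_xor (a b i : ℕ) : bit2 (a ^^^ b) i = bit2 a i + bit2 b i := by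
  simp only [bit2_eq, Nat.testBit_xor]
  cases a.testBit i <;> cases b.testBit i <;> decide

theorem bit2_half (m i : ℕ) : bit2 (m / 2) i = bit2 m (i + 1) := by
  simp only [bit2_eq, Nat.testBit_succ]

theorem eq_of_bit2 {l a b : ℕ} (ha : a < 2 ^ l) (hb : b < 2 ^ l)
    (h : ∀ i < l, bit2 a i = bit2 b i) : a = b := by
  refine Nat.eq_of_testBit_eq fun i => ?_
  by_cases hi : i < l
  · have := h i hi
    simp only [bit2_eq] at this
    revert this
    cases a.testBit i <;> cases b.testBit i <;> decide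
  · have hp : 2 ^ l ≤ 2 ^ i := Nat.pow_le_pow_right (by norm_num) (by omega)
    rw [Nat.testBit_lt_two_pow (ha.trans_le hp), Nat.testBit_lt_two_pow (hb.trans_le hp)]

theorem exists_bits : ∀ (l : ℕ) (f : ℕ → ZMod 2), ∃ ε < 2 ^ l, ∀ i < l, bit2 ε i = f i := by
  intro l
  induction l with
  | zero => exact fun f => ⟨0, by norm_num, fun i hi => absurd hi (Nat.not_lt_zero i)⟩
  | succ l ih =>
    intro f
    obtain ⟨ε, hε, h⟩ := ih fun i => f (i + 1)
    have hf : (f 0).val < 2 := ZMod.val_lt _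
    refine ⟨(f 0).val + 2 * ε, by rw [pow_succ]; omega, fun i hi => ?_⟩
    cases i with
    | zero =>
      rw [bit2, show bitN ((f 0).val + 2 * ε) 0 = (f 0).val by
        show (((f 0).val + 2 * ε) >>> 0) % 2 = _
        rw [Nat.shiftRight_zero]; omega, ZMod.natCast_val, ZMod.cast_id]
    | succ i =>
      rw [← bit2_half, show ((f 0).val + 2 * ε) / 2 = ε by omega]
      exact h i (Nat.lt_of_succ_lt_succ hi)

/-- The roots of odd value under a mask, from the columns of the fundamental masks. -/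
noncomputable def OD (cols : List ℕ) : ℕ → ℕ :=
  List.rec (fun _ => 0) (fun c _ ih ε => Nat.xor (Nat.mul (Nat.mod ε 2) c) (ih (Nat.div ε 2))) cols

/-- The value of a root under a mask. -/
noncomputable def par (cols : List ℕ) (ε r : ℕ) : ZMod 2 := bit2 (OD cols ε) r

theorem par_eq_sum : ∀ (cols : List ℕ) (ε r : ℕ),
    par cols ε r = ∑ i ∈ Finset.range cols.length, bit2 ε i * bit2 (cols.getD i 0) r := by
  intro cols
  induction cols with
  | nil => intro ε r; simp [par, OD, bit2_eq]
  | cons c cs ih =>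
    intro ε r
    show bit2 ((ε % 2 * c) ^^^ OD cs (ε / 2)) r = _
    rw [bit2_xor, List.length_cons, Finset.sum_range_succ', add_comm (∑ i ∈ _, _)]
    refine congrArg₂ (· + ·) ?_ ?_
    · rw [List.getD_cons_zero]
      rcases Nat.mod_two_eq_zero_or_one ε with h | h
      · rw [h, Nat.zero_mul, show bit2 ε 0 = 0 by
          simp [bit2_eq, Nat.testBit_zero, h], zero_mul]
        simp [bit2_eq]
      · rw [h, Nat.one_mul, show bit2 ε 0 = 1 by
          simp [bit2_eq, Nat.testBit_zero, h], one_mul]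
    · rw [show bit2 (OD cs (ε / 2)) r = par cs (ε / 2) r from rfl, ih]
      exact Finset.sum_congr rfl fun i _ => by rw [bit2_half, List.getD_cons_succ]

/-! ### Functions on roots compatible with the reflections modulo two -/

/-- Compatible with the fundamental reflections modulo two. -/
def AddMod (D : ChevalleyDatum) (f : ℕ → ZMod 2) : Prop :=
  ∀ i < D.rank, ∀ r < D.nroots,
    f (D.reflectRoot i r) = f r + (D.cartan i r : ZMod 2) * f (D.simple i)

/-- The columns are the coefficients modulo two in the fundamental roots. -/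
noncomputable def colsChk (T : Tab) (cols : List ℕ) : Bool :=
  Nat.beq cols.length T.l &&
  allR T.l fun k => allR T.l fun j =>
    Nat.beq (bitN (cols.getD k 0) (T.simple j)) (bif Nat.beq k j then 1 else 0) &&
    allR T.n fun r => Nat.beq (bitN (cols.getD k 0) (T.refl j r))
      (Nat.mod (Nat.add (bitN (cols.getD k 0) r)
        (Nat.mul (T.A j r).natAbs (bitN (cols.getD k 0) (T.simple j)))) 2)

variable {D : ChevalleyDatum} {T : Tab} (hC : Certified D T)
include hC

theorem AddMod.ext {f g : ℕ → ZMod 2} (hf : AddMod D f) (hg : AddMod D g)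
    (h : ∀ i < D.rank, f (D.simple i) = g (D.simple i)) : ∀ r < D.nroots, f r = g r :=
  Root.simple_induction hC (fun i hi => h i hi) fun r hr i hi ih => by
    rw [hf i hi r hr, hg i hi r hr, ih, h i hi]

theorem AddMod.comp_reflect {f : ℕ → ZMod 2} (hf : AddMod D f) {j : ℕ} (hj : j < D.rank) :
    AddMod D (fun r => f (D.reflectRoot j r)) := by
  intro i hi r hr
  dsimp only
  rw [hf j hj _ (hC.reflect_lt hi hr), hf i hi r hr, hC.cartan_reflect hi hj hr,
    hf j hj r hr, hf j hj _ (hC.simple_lt hi)]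
  push_cast
  rw [CharTwo.sub_eq_add]
  ring

theorem AddMod.comp_wL : ∀ {L : List ℕ}, (∀ i ∈ L, i < D.rank) → ∀ {f : ℕ → ZMod 2},
    AddMod D f → AddMod D (fun r => f (wL D L r)) := by
  intro L
  induction L with
  | nil => exact fun _ f hf => hf
  | cons i L ih =>
    intro hL f hf
    exact ih (fun j hj => hL j (List.mem_cons_of_mem i hj))
      (AddMod.comp_reflect hC hf (hL i List.mem_cons_self))

variable {cols : List ℕ} (hcols : colsChk T cols = true)
include hcols

theorem cols_length : cols.length = D.rank := by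
  simp only [colsChk, Bool.and_eq_true] at hcols
  rw [Nat.eq_of_beq_eq_true hcols.1, hC.l_eq]

theorem col_simple {k j : ℕ} (hk : k < D.rank) (hj : j < D.rank) :
    bit2 (cols.getD k 0) (D.simple j) = if k = j then 1 else 0 := by
  simp only [colsChk, Bool.and_eq_true] at hcols
  have h := of_allR (of_allR hcols.2 k (by rw [hC.l_eq]; exact hk)) j (by rw [hC.l_eq]; exact hj)
  simp only [Bool.and_eq_true] at h
  rw [bit2, ← hC.simple_eq hj, Nat.eq_of_beq_eq_true h.1]
  by_cases e : k = j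
  · subst e; simp
  · rw [Bool.eq_false_iff.2 (fun hb => e (Nat.eq_of_beq_eq_true hb)), cond_false, if_neg e,
      Nat.cast_zero]

theorem col_addMod {k : ℕ} (hk : k < D.rank) : AddMod D (fun r => bit2 (cols.getD k 0) r) := by
  intro j hj r hr
  simp only [colsChk, Bool.and_eq_true] at hcols
  have h := of_allR (of_allR hcols.2 k (by rw [hC.l_eq]; exact hk)) j (by rw [hC.l_eq]; exact hj)
  simp only [Bool.and_eq_true] at h
  have h2 := Nat.eq_of_beq_eq_true (of_allR h.2 r (by rw [hC.n_eq]; exact hr))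
  have hA : ((D.cartan j r).natAbs : ZMod 2) = (D.cartan j r : ZMod 2) := by
    rcases Int.natAbs_eq (D.cartan j r) with e | e <;> conv_rhs => rw [e]
    · rfl
    · simp [Int.cast_neg, CharTwo.neg_eq]
  simp only [bit2, hC.reflect_eq hj hr, h2, hC.simple_eq hj, hC.linked.A_eq j hj r hr,
    Nat.add_eq, Nat.mul_eq]
  show ((((_ + _) % 2 : ℕ)) : ZMod 2) = _
  rw [ZMod.natCast_mod, Nat.cast_add, Nat.cast_mul, hA]

theorem par_addMod (ε : ℕ) : AddMod D (par cols ε) := by
  intro j hj r hr
  simp only [par_eq_sum, Finset.mul_sum, ← Finset.sum_add_distrib]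
  refine Finset.sum_congr rfl fun i hi => ?_
  have := col_addMod hC hcols (k := i) (cols_length hC hcols ▸ Finset.mem_range.1 hi) j hj r hr
  dsimp only at this
  rw [this]; ring

theorem par_simple (ε : ℕ) {k : ℕ} (hk : k < D.rank) :
    par cols ε (D.simple k) = bit2 ε k := by
  rw [par_eq_sum, cols_length hC hcols, Finset.sum_eq_single k]
  · rw [col_simple hC hcols hk hk, if_pos rfl, mul_one]
  · intro i hi hne
    rw [col_simple hC hcols (Finset.mem_range.1 hi) hk, if_neg hne, mul_zero]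
  · exact fun h => absurd (Finset.mem_range.2 hk) h

omit hC hcols

/-- The mask pulled back along images of the fundamental roots. -/
noncomputable def pullN (l : ℕ) (cols : List ℕ) (img : ℕ → ℕ) (ε : ℕ) : ℕ :=
  Nat.rec 0 (fun i ih => Nat.add ih (Nat.shiftLeft (bitN (OD cols ε) (img i)) i)) l

theorem pullN_spec (l : ℕ) (cols : List ℕ) (img : ℕ → ℕ) (ε : ℕ) :
    pullN l cols img ε < 2 ^ l ∧
      ∀ i < l, bit2 (pullN l cols img ε) i = par cols ε (img i) := by
  induction l with
  | zero => exact ⟨by show (0 : ℕ) < _; norm_num, fun i hi => absurd hi (Nat.not_lt_zero i)⟩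
  | succ l ih =>
    obtain ⟨hlt, hb⟩ := ih
    have e : pullN (l + 1) cols img ε =
        pullN l cols img ε + bitN (OD cols ε) (img l) <<< l := rfl
    have h2 : bitN (OD cols ε) (img l) < 2 := Nat.mod_lt _ (by norm_num)
    rw [e, Nat.shiftLeft_eq]
    obtain ⟨m, hm⟩ : ∃ m, m = pullN l cols img ε := ⟨_, rfl⟩
    obtain ⟨b, hb'⟩ : ∃ b, b = bitN (OD cols ε) (img l) := ⟨_, rfl⟩
    rw [← hm] at hlt hb ⊢
    rw [← hb'] at h2 ⊢
    refine ⟨by rw [pow_succ]; rcases (show b = 0 ∨ b = 1 by omega) with rfl | rfl <;> omega,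
      fun i hi => ?_⟩
    rw [add_comm, mul_comm, bit2_eq, Nat.testBit_two_pow_mul_add _ hlt]
    by_cases hil : i < l
    · rw [if_pos hil, ← bit2_eq]; exact hb i hil
    · obtain rfl : i = l := by omega
      rw [if_neg hil, Nat.sub_self]
      show _ = ((bitN (OD cols ε) (img i) : ℕ) : ZMod 2)
      rw [← hb', Nat.testBit_zero]
      rcases (show b = 0 ∨ b = 1 by omega) with rfl | rfl <;> simp

/-- The mask moved by a fundamental reflection. -/
noncomputable def act (T : Tab) (cols : List ℕ) (i ε : ℕ) : ℕ :=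
  pullN T.l cols (fun k => T.refl i (T.simple k)) ε

/-- Every non-zero mask reaches one of two masks by the given words. -/
noncomputable def classChk (T : Tab) (cols : List ℕ) (e₁ e₂ : ℕ) (words : List (List ℕ)) : Bool :=
  allR (2 ^ T.l) fun ε => Nat.beq ε 0 ||
    ((words.getD ε []).all (fun i => Nat.blt i T.l) &&
      (Nat.beq ((words.getD ε []).foldr (act T cols) ε) e₁ ||
        Nat.beq ((words.getD ε []).foldr (act T cols) ε) e₂))

/-! ### Signs -/

/-- The sign of a residue. -/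
def sg {F : Type*} [Field F] (x : ZMod 2) : Fˣ := if x = 0 then 1 else -1

variable {F : Type*} [Field F]

theorem cases2 : ∀ a : ZMod 2, a = 0 ∨ a = 1 := by decide

theorem sg_zero : (sg (0 : ZMod 2) : Fˣ) = 1 := by simp [sg]

theorem sg_one : (sg (1 : ZMod 2) : Fˣ) = -1 := by simp [sg]

theorem sg_add (a b : ZMod 2) : (sg (a + b) : Fˣ) = sg a * sg b := by
  rcases cases2 a with rfl | rfl <;> rcases cases2 b with rfl | rfl
  all_goals simp only [add_zero, zero_add, show (1 + 1 : ZMod 2) = 0 by decide, sg_zero, sg_one]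
  all_goals simp

theorem sg_sum {ι : Type*} (s : Finset ι) (f : ι → ZMod 2) :
    (sg (∑ i ∈ s, f i) : Fˣ) = ∏ i ∈ s, sg (f i) := by
  induction s using Finset.cons_induction with
  | empty => simp [sg_zero]
  | cons a s ha ih => rw [Finset.sum_cons, Finset.prod_cons, sg_add, ih]

theorem sg_smul (z : ℤ) (a : ZMod 2) : (sg ((z : ZMod 2) * a) : Fˣ) = sg a ^ z := by
  rcases cases2 a with rfl | rfl
  · rw [mul_zero, sg_zero, one_zpow]
  · rw [mul_one, sg_one]
    rcases Int.even_or_odd z with h | h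
    · rw [show (z : ZMod 2) = 0 from (ZMod.intCast_zmod_eq_zero_iff_dvd z 2).2 (by
        exact_mod_cast h.two_dvd), sg_zero, h.neg_one_zpow]
    · obtain ⟨k, rfl⟩ := h
      rw [show ((2 * k + 1 : ℤ) : ZMod 2) = 1 by
        push_cast; rw [show (2 : ZMod 2) = 0 from rfl, zero_mul, zero_add], sg_one,
        (show Odd (2 * k + 1) from ⟨k, rfl⟩).neg_one_zpow]

theorem sg_inj (h2 : (2 : F) ≠ 0) {a b : ZMod 2} (h : (sg a : Fˣ) = sg b) : a = b := by
  have hne : (1 : Fˣ) ≠ -1 := fun e => h2 (by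
    have := congrArg (fun u : Fˣ => (u : F)) e
    simp at this
    linear_combination this)
  rcases cases2 a with rfl | rfl <;> rcases cases2 b with rfl | rfl <;>
    simp only [sg_zero, sg_one] at h
  · rfl
  · exact absurd h hne
  · exact absurd h.symm hne
  · rfl

theorem sg_inv (a : ZMod 2) : (sg a : Fˣ)⁻¹ = sg a := by
  rcases cases2 a with rfl | rfl <;> simp [sg_zero, sg_one]

/-- A torus element whose characters are the signs of a mask. -/
def HasMask (D : ChevalleyDatum) (cols : List ℕ) (c : ℕ → Fˣ) (ε : ℕ) : Prop :=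
  ∀ s < D.nroots, torChar D c s = sg (par cols ε s)

include hC hcols

theorem hasMask_of_simple {c : ℕ → Fˣ} {ε : ℕ}
    (h : ∀ i < D.rank, torChar D c (D.simple i) = sg (bit2 ε i)) : HasMask D cols c ε :=
  Root.simple_induction hC (fun i hi => by rw [h i hi, par_simple hC hcols ε hi])
    fun r hr i hi ih => by
      rw [TorusCard.torChar_reflect hC _ hi hr, ih, par_addMod hC hcols ε i hi r hr, sg_add,
        sg_smul, zpow_neg, ← inv_zpow, h i hi, sg_inv, par_simple hC hcols ε hi]

theorem tor_eq_of_mask {c c' : ℕ → Fˣ} {ε : ℕ} (h : HasMask D cols c ε)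
    (h' : HasMask D cols c' ε) : tor D c = tor D c' :=
  tor_ext hC fun i hi => by rw [h _ (hC.simple_lt hi), h' _ (hC.simple_lt hi)]

theorem exists_mask {c : ℕ → Fˣ} (h : tor D c * tor D c = 1) :
    ∃ ε < 2 ^ D.rank, HasMask D cols c ε := by
  classical
  obtain ⟨ε, hε, hb⟩ := exists_bits D.rank fun i =>
    if torChar D c (D.simple i) = 1 then 0 else 1
  refine ⟨ε, hε, hasMask_of_simple hC hcols fun i hi => ?_⟩
  rw [hb i hi]
  rw [tor_mul, ← tor_one (D := D) (F := F)] at h
  have h1 := torChar_congr hC h (hC.simple_lt hi)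
  rw [torChar_mul hC, torChar_one hC] at h1
  by_cases e : torChar D c (D.simple i) = 1
  · rw [if_pos e, e, sg_zero]
  · rw [if_neg e, sg_one]
    refine Units.ext ((mul_self_eq_one_iff.1 ?_).resolve_left fun h' => e (Units.ext h'))
    rw [← Units.val_mul, h1, Units.val_one]

theorem exists_of_mask {ε κ : ℕ}
    (h : ∀ k : Fin D.rank, bit2 ε k =
      ∑ i : Fin D.rank, (D.cartan i (D.simple k) : ZMod 2) * bit2 κ i) :
    ∃ c : ℕ → Fˣ, HasMask D cols c ε := by
  refine ⟨fun i => sg (bit2 κ i), hasMask_of_simple hC hcols fun k hk => ?_⟩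
  rw [h ⟨k, hk⟩, Fin.sum_univ_eq_sum_range (fun i => (D.cartan i (D.simple k) : ZMod 2) * bit2 κ i),
    sg_sum, torChar]
  exact Finset.prod_congr rfl fun i _ => (sg_smul _ _).symm

theorem cj_act {c : ℕ → Fˣ} {ε i : ℕ} (hi : i < D.rank) (h : HasMask D cols c ε) :
    ∃ c' : ℕ → Fˣ, Cj D (tor D c) (tor D c') ∧ HasMask D cols c' (act T cols i ε) := by
  obtain ⟨c', e, hc'⟩ := ng_conj_tor hC hi c
  refine ⟨c', ⟨_, ng_mem_group hC (hC.simple_lt hi) 1, e⟩, hasMask_of_simple hC hcols fun k hk => ?_⟩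
  rw [hc' _ (hC.simple_lt hk), h _ (hC.reflect_lt hi (hC.simple_lt hk)), act,
    (pullN_spec _ _ _ _).2 k (by rw [hC.l_eq]; exact hk), hC.simple_eq hk,
    ← hC.reflect_eq hi (hC.simple_lt hk)]

theorem cj_class {e₁ e₂ : ℕ} {words : List (List ℕ)} (hcl : classChk T cols e₁ e₂ words = true)
    {c : ℕ → Fˣ} {ε : ℕ} (hε : ε < 2 ^ D.rank) (hne : ε ≠ 0) (h : HasMask D cols c ε) :
    ∃ c' : ℕ → Fˣ, Cj D (tor D c) (tor D c') ∧
      (HasMask D cols c' e₁ ∨ HasMask D cols c' e₂) := by
  have key : ∀ w : List ℕ, (∀ i ∈ w, i < D.rank) → ∃ c' : ℕ → Fˣ, Cj D (tor D c) (tor D c') ∧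
      HasMask D cols c' (w.foldr (act T cols) ε) := by
    intro w
    induction w with
    | nil => exact fun _ => ⟨c, Cj.refl _, h⟩
    | cons i w ih =>
      intro hw
      obtain ⟨c₁, h1, h1'⟩ := ih fun j hj => hw j (List.mem_cons_of_mem i hj)
      obtain ⟨c₂, h2, h2'⟩ := cj_act hC hcols (hw i List.mem_cons_self) h1'
      exact ⟨c₂, h1.trans h2, h2'⟩
  have h1 := of_allR hcl ε (by rw [hC.l_eq]; exact hε)
  simp only [Bool.or_eq_true, Bool.and_eq_true, List.all_eq_true, Nat.blt_eq] at h1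
  obtain ⟨hlt, he⟩ := h1.resolve_left fun hb => hne (Nat.eq_of_beq_eq_true hb)
  obtain ⟨c', hc, hm⟩ := key _ fun i hi => hC.l_eq ▸ hlt i hi
  refine ⟨c', hc, ?_⟩
  rcases he with he | he
  · exact Or.inl (Nat.eq_of_beq_eq_true he ▸ hm)
  · exact Or.inr (Nat.eq_of_beq_eq_true he ▸ hm)

theorem tor_ne_one (h2 : (2 : F) ≠ 0) {c : ℕ → Fˣ} {ε : ℕ} (hε : ε < 2 ^ D.rank) (hne : ε ≠ 0)
    (h : HasMask D cols c ε) : tor D c ≠ 1 := by
  intro e
  refine hne (eq_of_bit2 hε (Nat.two_pow_pos _) fun i hi => ?_)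
  rw [← tor_one (D := D) (F := F)] at e
  have h1 := torChar_congr hC e (hC.simple_lt hi)
  rw [h _ (hC.simple_lt hi), par_simple hC hcols ε hi, torChar_one hC, ← sg_zero (F := F)] at h1
  rw [sg_inj h2 h1, bit2_eq, Nat.zero_testBit]
  rfl

theorem tor_mask_sq {c : ℕ → Fˣ} {ε : ℕ} (h : HasMask D cols c ε) : tor D c * tor D c = 1 := by
  rw [tor_mul, ← tor_one (D := D) (F := F)]
  refine tor_ext hC fun i hi => ?_
  rw [torChar_mul hC, torChar_one hC, h _ (hC.simple_lt hi), ← sg_add, CharTwo.add_self_eq_zero,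
    sg_zero]

theorem mask_zero_eq_one {c : ℕ → Fˣ} (h : HasMask D cols c 0) : tor D c = 1 := by
  rw [← tor_one (D := D) (F := F)]
  refine tor_ext hC fun i hi => ?_
  rw [h _ (hC.simple_lt hi), par_simple hC hcols 0 hi, torChar_one hC, bit2_eq, Nat.zero_testBit]
  exact sg_zero

end Cfsg.Agent.GroupStructure3.OddInvol
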