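import Cfsg.Agent.GroupStructure3.OddInvol.Basic

/-!
An involution acting on the `SL₂` of a root it negates: conjugation inside that `SL₂` multiplies it by
any torus element of the root, and by a monomial element when its parameter is a square.
-/

set_option autoImplicit false

open scoped MatrixGroups Matrix

namespace Cfsg.Agent.GroupStructure3.OddInvol

open Cfsg.Lie Cfsg.Agent.Chevalley Cfsg.Agent.Chevalley.Table Cfsg.Agent.Chevalley.Cert
  Cfsg.Agent.Chevalley.Group Cfsg.Agent.Chevalley.Borel Cfsg.Agent.Chevalley.SL2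

variable {D : ChevalleyDatum} {F : Type*} [Field F] {T : Tab}

/-- The monomial matrix with parameter `a`. -/
def sn (a : F) : SL(2, F) := sx a * sy (-a⁻¹) * sx a

/-- The diagonal matrix `diag(a, a⁻¹)`. -/
def sd (a : F) : SL(2, F) := sn a * sn (-1)

theorem coe_sn {a : F} (ha : a ≠ 0) :
    ((sn a : SL(2, F)) : Matrix (Fin 2) (Fin 2) F) = !![0, a; -a⁻¹, 0] := by
  ext i j
  fin_cases i <;> fin_cases j <;>
    simp [sn, Matrix.mul_apply, Fin.sum_univ_two, ha]

theorem coe_sd {a : F} (ha : a ≠ 0) :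
    ((sd a : SL(2, F)) : Matrix (Fin 2) (Fin 2) F) = !![a, 0; 0, a⁻¹] := by
  rw [sd, Matrix.SpecialLinearGroup.coe_mul, coe_sn ha, coe_sn (neg_ne_zero.2 one_ne_zero)]
  ext i j
  fin_cases i <;> fin_cases j <;> simp [Matrix.mul_apply, Fin.sum_univ_two]

/-- Conjugation by `(0, 1; c, 0)`. -/
def sig (c : Fˣ) : SL(2, F) →* SL(2, F) where
  toFun g := ⟨!![el g 1 1, el g 1 0 / (c : F); (c : F) * el g 0 1, el g 0 0], by
    rw [Matrix.det_fin_two_of]
    have := el_det g
    field_simp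
    linear_combination this⟩
  map_one' := by
    apply Subtype.ext
    ext i j
    fin_cases i <;> fin_cases j <;> simp [el]
  map_mul' g h := by
    refine Subtype.ext ?_
    show _ = !![el g 1 1, el g 1 0 / (c : F); (c : F) * el g 0 1, el g 0 0] *
      !![el h 1 1, el h 1 0 / (c : F); (c : F) * el h 0 1, el h 0 0]
    ext i j
    fin_cases i <;> fin_cases j <;> simp [el, Matrix.mul_apply, Fin.sum_univ_two] <;> field_simp <;>
      ring

@[simp] theorem coe_sig (c : Fˣ) (g : SL(2, F)) :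
    ((sig c g : SL(2, F)) : Matrix (Fin 2) (Fin 2) F) =
      !![el g 1 1, el g 1 0 / (c : F); (c : F) * el g 0 1, el g 0 0] := rfl

variable (hC : Certified D T)
include hC

theorem root_twist {r : ℕ} (hr : r < D.nroots) {m : GL D.Idx F} (hm : m * m = 1) {c : Fˣ}
    (hmc : ∀ t : F, m * xg hC r t * m⁻¹ = xg hC (D.neg r) ((c : F) * t))
    {g : SL(2, F)} {s : SL(2, F)} (hs : g * sig c g⁻¹ = s) :
    ∃ φ : SL(2, F) →* GL D.Idx F,
      (∀ t, φ (sx t) = xg hC r t) ∧ (∀ t, φ (sy t) = xg hC (D.neg r) t) ∧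
        Cj D m (φ s * m) := by
  obtain ⟨φ, hx, hy, hmem⟩ := exists_hom (rank1 (F := F) hC hr)
  refine ⟨φ, hx, hy, φ g, ?_, ?_⟩
  · refine (Subgroup.closure_le _).2 ?_ (hmem g)
    rintro _ (⟨t, rfl⟩ | ⟨t, rfl⟩)
    · exact xg_mem_group hC hr t
    · exact xg_mem_group hC (hC.neg_lt hr) t
  have hminv : m⁻¹ = m := inv_eq_of_mul_eq_one_right hm
  have hall : ∀ X : SL(2, F), m * φ X * m⁻¹ = φ (sig c X) := by
    refine mem_of_generators
      (K := MonoidHom.eqLocus ((MulAut.conj m).toMonoidHom.comp φ) (φ.comp (sig c)))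
      (fun t => ?_) (fun t => ?_)
    · show m * φ (sx t) * m⁻¹ = φ (sig c (sx t))
      have e : sig c (sx t) = sy ((c : F) * t) := by
        apply Subtype.ext
        ext i j
        fin_cases i <;> fin_cases j <;> simp [el]
      rw [hx, hmc, e, hy]
    · show m * φ (sy t) * m⁻¹ = φ (sig c (sy t))
      have e : sig c (sy t) = sx (t / (c : F)) := by
        apply Subtype.ext
        ext i j
        fin_cases i <;> fin_cases j <;> simp [el]
      have h1 := hmc (t / (c : F))
      rw [mul_div_cancel₀ t c.ne_zero] at h1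
      rw [hy, e, hx, ← h1, hminv]
      calc m * (m * xg hC r (t / (c : F)) * m) * m
          = m * m * xg hC r (t / (c : F)) * (m * m) := by group
        _ = _ := by rw [hm]; group
  calc φ g * m * (φ g)⁻¹ = φ g * (m * φ g⁻¹ * m⁻¹) * m := by rw [map_inv]; group
    _ = φ s * m := by rw [hall, ← map_mul, hs]

theorem good_twist {r : ℕ} (hr : r < D.nroots) (h2 : (2 : F) ≠ 0) {m : GL D.Idx F}
    (hm : m * m = 1) {c : Fˣ}
    (hmc : ∀ t : F, m * xg hC r t * m⁻¹ = xg hC (D.neg r) ((c : F) * t))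
    (hsq : IsSquare (c : F)) : ∃ a : Fˣ, Cj D m (ng hC r (a : F) * m) := by
  obtain ⟨d, hd⟩ := hsq
  have hd0 : d ≠ 0 := fun h => c.ne_zero (by rw [hd, h, mul_zero])
  obtain ⟨g, hg⟩ : ∃ g : SL(2, F),
      (g : Matrix (Fin 2) (Fin 2) F) = !![d, 1; -2⁻¹, (2 * d)⁻¹] := by
    refine ⟨⟨_, ?_⟩, rfl⟩
    rw [Matrix.det_fin_two_of]
    field_simp
    ring
  obtain ⟨φ, hx, hy, h⟩ := root_twist hC hr hm hmc (g := g) (s := sn d⁻¹) (by
    apply Subtype.ext
    rw [Matrix.SpecialLinearGroup.coe_mul, coe_sig, coe_sn (inv_ne_zero hd0)]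
    simp only [el, Matrix.SpecialLinearGroup.coe_inv, hg, Matrix.adjugate_fin_two_of, hd, inv_inv]
    ext i j
    fin_cases i <;> fin_cases j <;> simp [Matrix.mul_apply, Fin.sum_univ_two] <;> field_simp <;> ring)
  refine ⟨(Units.mk0 d hd0)⁻¹, ?_⟩
  rw [Units.val_inv_eq_inv_val, Units.val_mk0]
  rwa [sn, map_mul, map_mul, hx, hy] at h

theorem flip_twist [Fintype F] {r : ℕ} (hr : r < D.nroots) (hF : Odd (Fintype.card F))
    {m : GL D.Idx F} (hm : m * m = 1) {c : Fˣ}
    (hmc : ∀ t : F, m * xg hC r t * m⁻¹ = xg hC (D.neg r) ((c : F) * t)) (a : Fˣ) :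
    Cj D m (hg hC r (a : F) * m) := by
  obtain ⟨x, y, hxy⟩ : ∃ x y : F, x ^ 2 - (c : F) * y ^ 2 = (a : F) := by
    obtain ⟨x, y, h⟩ := FiniteField.exists_root_sum_quadratic
      (f := Polynomial.X ^ 2 - Polynomial.C (a : F)) (g := Polynomial.C (-(c : F)) * Polynomial.X ^ 2)
      (by rw [Polynomial.degree_X_pow_sub_C] <;> simp)
      (by rw [Polynomial.degree_C_mul (by simp), Polynomial.degree_X_pow]; rfl)
      (Nat.odd_iff.1 hF)
    refine ⟨x, y, ?_⟩
    simp at h
    linear_combination h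
  obtain ⟨g, hg⟩ : ∃ g : SL(2, F),
      (g : Matrix (Fin 2) (Fin 2) F) = !![x, y; y * c / (a : F), x / (a : F)] := by
    refine ⟨⟨_, ?_⟩, rfl⟩
    rw [Matrix.det_fin_two_of]
    field_simp
    linear_combination hxy
  obtain ⟨φ, hx, hy, h⟩ := root_twist hC hr hm hmc (g := g) (s := sd (a : F)) (by
    apply Subtype.ext
    rw [Matrix.SpecialLinearGroup.coe_mul, coe_sig, coe_sd a.ne_zero]
    simp only [el, Matrix.SpecialLinearGroup.coe_inv, hg, Matrix.adjugate_fin_two_of]
    ext i j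
    fin_cases i <;> fin_cases j <;> simp [Matrix.mul_apply, Fin.sum_univ_two] <;> field_simp <;>
      first
        | ring1
        | linear_combination hxy
        | linear_combination (-1 : F) * hxy)
  rwa [sd, map_mul, sn, sn, map_mul, map_mul, map_mul, map_mul, hx, hy, hx, hy] at h

end Cfsg.Agent.GroupStructure3.OddInvol
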